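import Cfsg.Agent.Lib.ThreeClassSizes.Basic
import Cfsg.Agent.Lib.TICent.Complement
import Cfsg.Agent.S0205

/-!
# Centreless groups whose non-trivial class sizes form an antichain
-/

set_option autoImplicit false
set_option linter.style.haveILetI false
set_option linter.unusedSectionVars false

namespace Cfsg.Agent.ThreeClassSizes

open Cfsg.Agent.ClassTriple

universe u

variable {G : Type u} [Group G] [Finite G]

/-- The class sizes greater than one form an antichain under divisibility. -/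
def Anti (G : Type u) [Group G] : Prop :=
  ∀ x y : G, x ≠ 1 → y ≠ 1 → sz y ∣ sz x → sz y = sz x

/-- Commutative as a set. -/
def Ab (H : Subgroup G) : Prop := ∀ a ∈ H, ∀ b ∈ H, a * b = b * a

/-- The centre of a centraliser. -/
def Zc (z : G) : Subgroup G := cen z ⊓ Subgroup.centralizer (cen z : Set G)

lemma mem_Zc_of_cen_eq {g z : G} (h : cen g = cen z) : g ∈ Zc z := by
  refine Subgroup.mem_inf.2 ⟨h ▸ mem_cen_self g, Subgroup.mem_centralizer_iff.2 fun y hy => ?_⟩
  rw [← h] at hy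
  exact (mem_cen.1 hy).symm

lemma Zc_le (z : G) : Zc z ≤ cen z := inf_le_left

lemma Ab.zc_eq {z : G} (h : Ab (cen z)) : Zc z = cen z :=
  le_antisymm (Zc_le z) fun a ha => Subgroup.mem_inf.2
    ⟨ha, Subgroup.mem_centralizer_iff.2 fun y hy => h y hy a ha⟩

lemma normalizer_le_normalizer_Zc (z : G) :
    Subgroup.normalizer (cen z : Set G) ≤ Subgroup.normalizer (Zc z : Set G) := by
  have key : ∀ g ∈ Subgroup.normalizer (cen z : Set G), ∀ x ∈ Zc z, g * x * g⁻¹ ∈ Zc z := by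
    intro g hg x hx
    refine Subgroup.mem_inf.2 ⟨(Subgroup.mem_normalizer_iff.1 hg x).1 hx.1,
      Subgroup.mem_centralizer_iff.2 fun y hy => ?_⟩
    have hy' : g⁻¹ * y * g ∈ cen z := by
      have := (Subgroup.mem_normalizer_iff.1 (Subgroup.inv_mem _ hg) y).1 hy
      simpa using this
    have h := Subgroup.mem_centralizer_iff.1 hx.2 _ hy'
    calc y * (g * x * g⁻¹) = g * ((g⁻¹ * y * g) * x) * g⁻¹ := by group
      _ = g * (x * (g⁻¹ * y * g)) * g⁻¹ := by rw [h]
      _ = g * x * g⁻¹ * y := by group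
  intro g hg
  refine Subgroup.mem_normalizer_iff.2 fun x => ⟨key g hg x, fun h => ?_⟩
  have := key g⁻¹ (Subgroup.inv_mem _ hg) _ h
  simpa [mul_assoc] using this

lemma Anti.cen_eq_of_zpowers (ha : Anti G) {g a : G} (h : a ∈ Subgroup.zpowers g) (h1 : a ≠ 1) :
    cen g = cen a := by
  refine eq_of_le_of_index (cen_le_of_mem_zpowers h) (ha g a (fun e => h1 ?_) h1
    (sz_dvd (cen_le_of_mem_zpowers h))).symm
  rw [e] at h
  simpa using h

lemma Anti.cen_eq_of_ab (ha : Anti G) {x w : G} (hx : x ≠ 1) (hab : Ab (cen x))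
    (hw : w ∈ cen x) (hw1 : w ≠ 1) : cen x = cen w := by
  have hle : cen x ≤ cen w := fun a haa => mem_cen.2 (hab w hw a haa)
  exact eq_of_le_of_index hle (ha x w hx hw1 (sz_dvd hle)).symm

lemma Anti.cen_eq_of_coprime (ha : Anti G) {p q : ℕ} (hp : p.Prime) (hq : q.Prime) (hpq : p ≠ q)
    {x y : G} (hx : IsPPow p x) (hy : IsPPow q y) (hx1 : x ≠ 1) (hy1 : y ≠ 1) (hc : y ∈ cen x) :
    cen x = cen y := by
  have hco := hx.coprime hp hq hpq hy
  have h1 := ha.cen_eq_of_zpowers (left_mem_zpowers_mul (mem_cen.1 hc) hco) hx1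
  have h2 : cen (y * x) = cen y := ha.cen_eq_of_zpowers
    (left_mem_zpowers_mul (show Commute y x from (mem_cen.1 hc).symm) hco.symm) hy1
  rw [← h1, show x * y = y * x from mem_cen.1 hc, h2]

/-- A centraliser which is not abelian is a group of prime power order. -/
lemma Anti.isPGroup (ha : Anti G) {p : ℕ} (hp : p.Prime) {x : G} (hx : IsPPow p x) (hx1 : x ≠ 1)
    (hnab : ¬ Ab (cen x)) : IsPGroup p (cen x) := by
  suffices h : ∀ q : ℕ, q.Prime → q ∣ Nat.card (cen x) → q = p by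
    exact IsPGroup.of_card (Nat.eq_prime_pow_of_unique_prime_dvd Nat.card_pos.ne' (h _))
  intro q hq hd
  by_contra hqp
  obtain ⟨y, hy, hyq, hy1⟩ := exists_ne_one_of_dvd hq hd
  refine hnab ?_
  have hw : ∀ r : ℕ, r.Prime → ∀ w ∈ cen x, IsPPow r w → cen x ≤ cen w := by
    intro r hr w hw hwr
    by_cases hw1 : w = 1
    · subst hw1; exact fun a _ => mem_cen.2 (by simp)
    by_cases hrp : r = p
    · subst hrp
      have e := ha.cen_eq_of_coprime hp hq (Ne.symm hqp) hx hyq hx1 hy1 hy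
      rw [e] at hw ⊢
      exact (ha.cen_eq_of_coprime hq hp hqp hyq hwr hy1 hw1 hw).le
    · exact (ha.cen_eq_of_coprime hp hr (Ne.symm hrp) hx hwr hx1 hw1 hw).le
  intro a haa b hb
  have : a ∈ Subgroup.centralizer (cen x : Set G) := mem_of_primary fun r hr w hw' hwr =>
    Subgroup.mem_centralizer_iff.2 fun c hc => (mem_cen.1 (hw r hr w
      ((Subgroup.zpowers_le.2 haa) hw') hwr hc)).symm
  exact (Subgroup.mem_centralizer_iff.1 this b hb).symm

/-- A non-trivial element centralising a Sylow subgroup which contains it. -/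
structure Base (z : G) : Prop where
  ne_one : z ≠ 1
  data : ∃ (p : ℕ) (_ : Fact p.Prime) (P : Sylow p G), p ∣ Nat.card G ∧ IsPPow p z ∧
    (P : Subgroup G) ≤ cen z

lemma exists_base {p : ℕ} (hp : p.Prime) (hd : p ∣ Nat.card G) :
    ∃ z : G, Base z ∧ p ∣ Nat.card (cen z) := by
  have := Fact.mk hp
  obtain ⟨P⟩ := (inferInstance : Nonempty (Sylow p G))
  obtain ⟨z, h1, h2, h3, h4, -⟩ := exists_zp P hd
  exact ⟨z, ⟨h1, p, inferInstance, P, hd, h3, h4⟩,
    (P.dvd_card_of_dvd_card hd).trans (Subgroup.card_dvd_of_le h4)⟩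

variable (hanti : Anti G)
include hanti

lemma Base.nonab {z : G} (hb : Base z) (h : ¬ Ab (cen z)) :
    ∃ (p : ℕ) (_ : Fact p.Prime) (P : Sylow p G), cen z = (P : Subgroup G) := by
  obtain ⟨p, hp, P, -, hz, hP⟩ := hb.data
  exact ⟨p, hp, P, P.is_maximal' (hanti.isPGroup hp.out hz hb.ne_one h) hP⟩

lemma Base.nilpotent {z : G} (hb : Base z) : Group.IsNilpotent (cen z) := by
  by_cases h : Ab (cen z)
  · exact isNilpotent_of_comm h
  · obtain ⟨p, hp, P, e⟩ := hb.nonab hanti h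
    rw [e]
    exact P.isPGroup'.isNilpotent

lemma Base.not_dvd {z : G} (hb : Base z) {s : ℕ} (hs : s.Prime) (hd : s ∣ Nat.card (cen z)) :
    ¬ s ∣ sz z := by
  have := Fact.mk hs
  by_cases h : Ab (cen z)
  · obtain ⟨e, he, hes, he1⟩ := exists_ne_one_of_dvd hs hd
    obtain ⟨S, hS⟩ := (hes.isPGroup_zpowers hs).exists_le_sylow
    obtain ⟨w, hw1, -, -, hSw, hw⟩ := exists_zp S
      (hd.trans (Subgroup.card_subgroup_dvd_card _))
    have h1 := hanti.cen_eq_of_ab hb.ne_one h he he1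
    have h2 : w ∈ cen z := h1 ▸ mem_cen_symm (hSw (hS (Subgroup.mem_zpowers e)))
    show ¬ s ∣ (cen z).index
    rw [hanti.cen_eq_of_ab hb.ne_one h h2 hw1]
    exact hw
  · obtain ⟨p, hp, P, e⟩ := hb.nonab hanti h
    rw [e] at hd
    obtain ⟨k, hk⟩ := P.isPGroup'.exists_card_eq
    rw [hk] at hd
    obtain rfl := (Nat.prime_dvd_prime_iff_eq hs hp.out).1 (hs.dvd_of_dvd_pow hd)
    show ¬ s ∣ (cen z).index
    rw [e]
    exact P.not_dvd_index

lemma Base.conj_cen {z : G} (hb : Base z) {s : ℕ} (hs : s.Prime) (hd : s ∣ Nat.card (cen z))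
    {e : G} (he : IsPPow s e) (he1 : e ≠ 1) : ∃ c : G, cen (c * e * c⁻¹) = cen z := by
  have := Fact.mk hs
  have hns := hb.not_dvd hanti hs hd
  obtain ⟨c, hc⟩ := exists_conj_mem hns he
  have hc1 : c * e * c⁻¹ ≠ 1 := fun h => he1 (conj_eq_one_iff.1 h)
  by_cases h : Ab (cen z)
  · exact ⟨c, (hanti.cen_eq_of_ab hb.ne_one h hc hc1).symm⟩
  obtain ⟨p, hp, P, eP⟩ := hb.nonab hanti h
  have hk := P.card_eq_multiplicity
  rw [← eP] at hk
  have hd' := hd
  rw [hk] at hd'
  obtain rfl := (Nat.prime_dvd_prime_iff_eq hs hp.out).1 (hs.dvd_of_dvd_pow hd')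
  set e' := c * e * c⁻¹ with he'
  have he's : IsPPow s e' := he.conj c
  have hnab : ¬ Ab (cen e') := fun hab => by
    have h1 := hanti.cen_eq_of_ab hc1 hab (mem_cen_symm hc) hb.ne_one
    exact h (h1 ▸ hab)
  obtain ⟨R, hR⟩ := (hanti.isPGroup hs he's hc1 hnab).exists_le_sylow
  have hdv : Nat.card (cen e') ∣ Nat.card (cen z) := by
    refine (Subgroup.card_dvd_of_le hR).trans ?_
    rw [R.card_eq_multiplicity, hk]
  have hsz : sz z = sz e' := by
    refine hanti e' z hc1 hb.ne_one ?_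
    obtain ⟨d, hd⟩ := hdv
    refine ⟨d, ?_⟩
    have h1 := card_cen_mul_sz e'
    rw [← card_cen_mul_sz z, hd, mul_assoc] at h1
    rw [Nat.eq_of_mul_eq_mul_left Nat.card_pos h1, mul_comm]
  have hcard := card_cen_eq hsz
  have hR' : cen e' = (R : Subgroup G) :=
    Subgroup.eq_of_le_of_card_ge hR (le_of_eq (by rw [R.card_eq_multiplicity, ← hk, hcard]))
  obtain ⟨d, hd⟩ := MulAction.exists_smul_eq G R P
  refine ⟨d * c, ?_⟩
  rw [show d * c * e * (d * c)⁻¹ = d * e' * d⁻¹ by rw [he']; group, cen_conj, hR', eP, ← hd]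
  rfl

lemma Base.sz_eq {z : G} (hb : Base z) {s : ℕ} (hs : s.Prime) (hd : s ∣ Nat.card (cen z))
    {e : G} (he : IsPPow s e) (he1 : e ≠ 1) : sz e = sz z := by
  obtain ⟨c, hc⟩ := hb.conj_cen hanti hs hd he he1
  rw [← sz_conj c e]
  show (cen (c * e * c⁻¹)).index = _
  rw [hc]

/-- The centralisers of central elements of a Sylow `2`-subgroup are abelian. -/
theorem Base.ab_two {z : G} (hb : Base z) (h2 : 2 ∣ Nat.card (cen z)) : Ab (cen z) := by
  by_contra h
  obtain ⟨p, hp, P, eP⟩ := hb.nonab hanti h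
  have hp2 : p = 2 := by
    obtain ⟨k, hk⟩ := P.isPGroup'.exists_card_eq
    rw [eP, hk] at h2
    exact ((Nat.prime_dvd_prime_iff_eq Nat.prime_two hp.out).1
      (Nat.prime_two.dvd_of_dvd_pow h2)).symm
  subst hp2
  have hsq : ∀ z' : G, cen z' = cen z → z' * z' = 1 := by
    intro z' hz'
    by_contra hne
    obtain ⟨a, haz, b, hbz, hab⟩ : ∃ a ∈ cen z, ∃ b ∈ cen z, a * b ≠ b * a := by
      simpa [Ab] using h
    have ha1 : a ≠ 1 := fun e => hab (by rw [e, one_mul, mul_one])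
    obtain ⟨q, w, hq, hwa, hw1, hwo⟩ := exists_prime_pow ha1
    have hwP : w ∈ (P : Subgroup G) := eP ▸ (Subgroup.zpowers_le.2 haz) hwa
    have hw2 : w * w = 1 := by
      have hq2 : q = 2 := by
        by_contra hq2
        exact hw1 ((isPPow_of_orderOf hwo).eq_one_of_ne hq Nat.prime_two hq2
          (IsPPow.of_mem P.isPGroup' hwP))
      rw [← pow_two, ← hq2, ← hwo, pow_orderOf_eq_one]
    have hwz : w ∈ cen z' := hz' ▸ eP ▸ hwP
    have hcomm : Commute z' w := mem_cen.1 hwz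
    have hsq' : (z' * w) ^ 2 = z' * z' := by
      rw [hcomm.mul_pow, pow_two w, hw2, mul_one, pow_two]
    have h1 : cen (z' * w) = cen z' := by
      rw [hanti.cen_eq_of_zpowers (a := z' * z') ⟨2, show (z' * w) ^ (2 : ℤ) = _ by rw [zpow_ofNat, hsq']⟩ hne,
        ← hanti.cen_eq_of_zpowers (g := z') (a := z' * z') ⟨2, show z' ^ (2 : ℤ) = _ by rw [zpow_ofNat, pow_two]⟩ hne]
    have hle : cen z' ≤ cen w := fun y hy => by
      have hy1 : Commute (z' * w) y := mem_cen.1 (h1.symm ▸ hy : y ∈ cen (z' * w))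
      have hy2 : Commute z' y := mem_cen.1 hy
      refine mem_cen.2 ?_
      have := (hy2.inv_left.mul_left hy1).eq
      simpa using this
    have h2 := hanti.cen_eq_of_zpowers hwa hw1
    exact hab (mem_cen.1 (h2.symm ▸ hle (hz'.symm ▸ hbz) : b ∈ cen a))
  have hexp : ∀ u ∈ (P : Subgroup G), u * u = 1 := by
    intro u hu
    by_cases hu1 : u = 1
    · rw [hu1, one_mul]
    obtain ⟨c, hc⟩ := hb.conj_cen hanti Nat.prime_two h2 (IsPPow.of_mem P.isPGroup' hu) hu1
    have := hsq _ hc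
    rw [show c * u * c⁻¹ * (c * u * c⁻¹) = c * (u * u) * c⁻¹ by group] at this
    exact conj_eq_one_iff.1 this
  refine h fun a ha b hb' => ?_
  rw [eP] at ha hb'
  have h1 := inv_eq_of_mul_eq_one_right (hexp a ha)
  have h3 := inv_eq_of_mul_eq_one_right (hexp b hb')
  have h4 := inv_eq_of_mul_eq_one_right (hexp _ ((P : Subgroup G).mul_mem ha hb'))
  rw [mul_inv_rev, h1, h3] at h4
  exact h4.symm

/-- An odd non-abelian Sylow centraliser has a centre of index at least nine. -/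
lemma Base.nine {z : G} (hb : Base z) (h : ¬ Ab (cen z)) (h2 : ¬ 2 ∣ Nat.card (cen z)) :
    9 * Nat.card (Zc z) ≤ Nat.card (cen z) := by
  obtain ⟨p, hp, P, eP⟩ := hb.nonab hanti h
  have hk : IsPGroup p (cen z) := eP ▸ P.isPGroup'
  obtain ⟨k, hk⟩ := hk.exists_card_eq
  obtain ⟨c, hc⟩ := Subgroup.card_dvd_of_le (Zc_le z)
  obtain ⟨i, -, rfl⟩ := (Nat.dvd_prime_pow hp.out).1 (Dvd.intro_left _ (hc.symm.trans hk))
  obtain ⟨a, haz, b, hbz, hab⟩ : ∃ a ∈ cen z, ∃ b ∈ cen z, a * b ≠ b * a := by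
    simpa [Ab] using h
  have hlt1 : Zc z < cen a ⊓ cen z := by
    refine lt_of_le_of_ne (fun y hy => Subgroup.mem_inf.2 ⟨mem_cen.2
      (Subgroup.mem_centralizer_iff.1 hy.2 a haz), hy.1⟩) fun e => hab ?_
    have : a ∈ Zc z := e ▸ Subgroup.mem_inf.2 ⟨mem_cen_self a, haz⟩
    exact (Subgroup.mem_centralizer_iff.1 this.2 b hbz).symm
  have hlt2 : cen a ⊓ cen z < cen z := by
    refine lt_of_le_of_ne inf_le_right fun e => hab ?_
    exact mem_cen.1 (e.symm ▸ hbz : b ∈ cen a ⊓ cen z).1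
  have h4 := (Nat.mul_le_mul_left 2 (two_mul_card_le hlt1)).trans (two_mul_card_le hlt2)
  have hp2 : p ≠ 2 := by
    rintro rfl
    refine h2 (hk ▸ dvd_pow_self 2 fun e => ?_)
    rw [hk, e, pow_zero] at h4
    have := Nat.card_pos (α := Zc z)
    omega
  have hp3 : 3 ≤ p := by have := hp.out.two_le; omega
  have hi : 2 ≤ i := by
    rcases i with _ | _ | i
    · rw [pow_zero, mul_one] at hc; have := Nat.card_pos (α := Zc z); omega
    · exfalso
      rw [pow_one] at hc
      obtain ⟨d, hd⟩ := Subgroup.card_dvd_of_le hlt1.le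
      have hdp : d ∣ p := by
        have := Subgroup.card_dvd_of_le hlt2.le
        rw [hd, hc] at this
        exact Nat.dvd_of_mul_dvd_mul_left Nat.card_pos this
      rcases hp.out.eq_one_or_self_of_dvd d hdp with rfl | rfl
      · have := two_mul_card_le hlt1
        have := Nat.card_pos (α := Zc z)
        omega
      · exact hlt2.ne (Subgroup.eq_of_le_of_card_ge hlt2.le (le_of_eq (by rw [hd, hc])))
    · omega
  have h9 : 9 ≤ p ^ i := le_trans (Nat.pow_le_pow_left hp3 2) (Nat.pow_le_pow_right hp.out.pos hi)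
  rw [hc, mul_comm (Nat.card (Zc z))]
  exact Nat.mul_le_mul_right _ h9

/-- An abelian component with trivial automiser avoids the derived group. -/
lemma Base.selfNorm {z : G} (hb : Base z) (h : Ab (cen z))
    (hN : Subgroup.normalizer (cen z : Set G) = cen z) {s : ℕ} (hs : s.Prime)
    (hd : s ∣ Nat.card (cen z)) : ¬ s ∣ Nat.card (commutator G) := by
  have := Fact.mk hs
  obtain ⟨S, hS⟩ := exists_sylow_le (hb.not_dvd hanti hs hd)
  refine not_dvd_commutator S ?_
  have hne : (S : Subgroup G) ≠ ⊥ :=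
    S.ne_bot_of_dvd_card (hd.trans (Subgroup.card_subgroup_dvd_card _))
  obtain ⟨⟨u, huS⟩, hu1⟩ := Subgroup.ne_bot_iff_exists_ne_one.1 hne
  have hu1' : u ≠ 1 := fun e => hu1 (Subtype.ext e)
  intro g hg
  have hgu : g * u * g⁻¹ ∈ (S : Subgroup G) := (Subgroup.mem_normalizer_iff.1 hg u).1 huS
  have he1 := hanti.cen_eq_of_ab hb.ne_one h (hS huS) hu1'
  have he2 := hanti.cen_eq_of_ab hb.ne_one h (hS hgu) fun e => hu1' (conj_eq_one_iff.1 e)
  have hgK : g ∈ cen z := by
    rw [← hN, Subgroup.mem_normalizer_iff]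
    intro y
    conv_lhs => rw [he1]
    conv_rhs => rw [he2, mem_cen_conj]
    simp [mul_assoc]
  exact Subgroup.mem_centralizer_iff.2 fun y hy => h y (hS hy) g hgK

omit hanti in
lemma commutes_of_conj {x : G} {z c : G} (hab : Ab (cen z)) (hc : cen (c * x * c⁻¹) = cen z) :
    Ab (cen x) := by
  intro a ha b hb
  have key : ∀ y ∈ cen x, c * y * c⁻¹ ∈ cen z := fun y hy => by
    rw [← hc, mem_cen_conj]; simpa [mul_assoc] using hy
  have h1 : c * (a * b) * c⁻¹ = c * (b * a) * c⁻¹ := by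
    calc c * (a * b) * c⁻¹ = (c * a * c⁻¹) * (c * b * c⁻¹) := by group
      _ = (c * b * c⁻¹) * (c * a * c⁻¹) := hab _ (key a ha) _ (key b hb)
      _ = c * (b * a) * c⁻¹ := by group
  simpa using h1

/-- Class sizes forming an antichain of length at most three: commuting is transitive. -/
theorem Anti.ct (h3 : {n : ℕ | 1 < n ∧ ∃ x : G, sz x = n}.ncard ≤ 3)
    (hZ : Subgroup.center G = ⊥) (hns : ¬ Group.IsSolvable G) :
    CASimple.CT G := by
  classical
  have hfin : {n : ℕ | 1 < n ∧ ∃ x : G, sz x = n}.Finite :=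
    (Set.finite_range (fun x : G => sz x)).subset fun n ⟨_, x, hx⟩ => ⟨x, hx⟩
  have h2G : 2 ∣ Nat.card G := by
    by_contra h
    exact hns (S0205.result (Nat.odd_iff.2 (Nat.two_dvd_ne_zero.1 h)))
  obtain ⟨z1, hb1, hd1⟩ := exists_base Nat.prime_two h2G
  obtain ⟨p2, hp2, hp2G, hn2⟩ :
      ∃ p : ℕ, p.Prime ∧ p ∣ Nat.card G ∧ ¬ p ∣ Nat.card (cen z1) := by
    by_contra hc
    push Not at hc
    exact hns (solvable_of_cover_top (hb1.nilpotent hanti) (hb1.nilpotent hanti)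
      fun p hp hd => Or.inl (hb1.not_dvd hanti hp (hc p hp hd)))
  obtain ⟨z2, hb2, hd2⟩ := exists_base hp2 hp2G
  obtain ⟨p3, hp3, hp3G, hn3, hn3'⟩ : ∃ p : ℕ, p.Prime ∧ p ∣ Nat.card G ∧
      ¬ p ∣ Nat.card (cen z1) ∧ ¬ p ∣ Nat.card (cen z2) := by
    by_contra hc
    push Not at hc
    refine hns (solvable_of_cover_top (hb1.nilpotent hanti) (hb2.nilpotent hanti)
      fun p hp hd => ?_)
    by_cases h : p ∣ Nat.card (cen z1)
    · exact Or.inl (hb1.not_dvd hanti hp h)
    · exact Or.inr (hb2.not_dvd hanti hp (hc p hp hd h))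
  obtain ⟨z3, hb3, hd3⟩ := exists_base hp3 hp3G
  have hne : ∀ (z z' : G) {p : ℕ}, p ∣ Nat.card (cen z') → ¬ p ∣ Nat.card (cen z) →
      sz z ≠ sz z' := fun z z' p hd hn e => hn (card_cen_eq e ▸ hd)
  have h12 := hne z1 z2 hd2 hn2
  have h13 := hne z1 z3 hd3 hn3
  have h23 := hne z2 z3 hd3 hn3'
  have hS : ({sz z1, sz z2, sz z3} : Set ℕ) = {n : ℕ | 1 < n ∧ ∃ x : G, sz x = n} := by
    refine Set.eq_of_subset_of_ncard_le ?_ (h3.trans (le_of_eq ?_)) hfin
    · rintro n (rfl | rfl | rfl)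
      · exact ⟨one_lt_sz hZ hb1.ne_one, z1, rfl⟩
      · exact ⟨one_lt_sz hZ hb2.ne_one, z2, rfl⟩
      · exact ⟨one_lt_sz hZ hb3.ne_one, z3, rfl⟩
    · rw [Set.ncard_insert_of_notMem (by simp [h12, h13]), Set.ncard_pair h23]
  -- every element lies over one of the three components
  have hcover : ∀ g : G, g ≠ 1 → ∃ c : G, cen (c * g * c⁻¹) = cen z1 ∨
      cen (c * g * c⁻¹) = cen z2 ∨ cen (c * g * c⁻¹) = cen z3 := by
    intro g hg
    obtain ⟨s, a, hs, has, ha1, hag, -⟩ := exists_prime_above hg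
    have hga := hanti.cen_eq_of_zpowers hag ha1
    have hmem : sz a ∈ ({sz z1, sz z2, sz z3} : Set ℕ) :=
      hS ▸ ⟨one_lt_sz hZ ha1, a, rfl⟩
    have hdvd : ∀ z : G, sz a = sz z → s ∣ Nat.card (cen z) := fun z e =>
      card_cen_eq e ▸ dvd_card_of_isPPow hs (mem_cen_self a) has ha1
    have hconj : ∀ c : G, cen (c * g * c⁻¹) = cen (c * a * c⁻¹) := fun c => by
      rw [cen_conj, cen_conj, hga]
    rcases hmem with e | e | e
    · obtain ⟨c, hc⟩ := hb1.conj_cen hanti hs (hdvd _ e) has ha1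
      exact ⟨c, Or.inl ((hconj c).trans hc)⟩
    · obtain ⟨c, hc⟩ := hb2.conj_cen hanti hs (hdvd _ e) has ha1
      exact ⟨c, Or.inr (Or.inl ((hconj c).trans hc))⟩
    · obtain ⟨c, hc⟩ := hb3.conj_cen hanti hs (hdvd _ e) has ha1
      exact ⟨c, Or.inr (Or.inr ((hconj c).trans hc))⟩
  have hA1 := hb1.ab_two hanti hd1
  by_cases hA : Ab (cen z2) ∧ Ab (cen z3)
  · intro x y z hx hy hz
    obtain ⟨c, hc⟩ := hcover x hx
    rcases hc with hc | hc | hc
    · exact commutes_of_conj hA1 hc y (mem_cen.2 hy) z (mem_cen.2 hz)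
    · exact commutes_of_conj hA.1 hc y (mem_cen.2 hy) z (mem_cen.2 hz)
    · exact commutes_of_conj hA.2 hc y (mem_cen.2 hy) z (mem_cen.2 hz)
  exfalso
  have hs12 : ∀ (z z' : G), Base z → Base z' → sz z ≠ sz z' →
      ∀ s : ℕ, s.Prime → s ∣ Nat.card (cen z) → ¬ s ∣ Nat.card (cen z') := by
    intro z z' hb hb' hne' s hs hd hd'
    obtain ⟨e, -, hes, he1⟩ := exists_ne_one_of_dvd hs hd
    exact hne' ((hb.sz_eq hanti hs hd hes he1).symm.trans (hb'.sz_eq hanti hs hd' hes he1))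
  have hall : ∀ p : ℕ, p.Prime → p ∣ Nat.card G →
      p ∣ Nat.card (cen z1) ∨ p ∣ Nat.card (cen z2) ∨ p ∣ Nat.card (cen z3) := by
    intro p hp hd
    obtain ⟨z, hb, hdz⟩ := exists_base hp hd
    have hmem : sz z ∈ ({sz z1, sz z2, sz z3} : Set ℕ) := hS ▸ ⟨one_lt_sz hZ hb.ne_one, z, rfl⟩
    rcases hmem with e | e | e <;> rw [card_cen_eq e] at hdz
    · exact Or.inl hdz
    · exact Or.inr (Or.inl hdz)
    · exact Or.inr (Or.inr hdz)
  -- an abelian component is properly normalised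
  have hw2 : ∀ (z z' z'' : G), Base z → Base z' → Base z'' → (∀ p : ℕ, p.Prime → p ∣ Nat.card G →
      p ∣ Nat.card (cen z) ∨ p ∣ Nat.card (cen z') ∨ p ∣ Nat.card (cen z'')) → Ab (cen z) →
      cen z < Subgroup.normalizer (cen z : Set G) := by
    intro z z' z'' hb hb' hb'' hall' hab
    refine lt_of_le_of_ne Subgroup.le_normalizer fun e => hns (solvable_of_commutator ?_)
    refine solvable_of_cover _ (hb'.nilpotent hanti) (hb''.nilpotent hanti) fun p hp hd => ?_
    rcases hall' p hp (hd.trans (Subgroup.card_subgroup_dvd_card _)) with h | h | h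
    · exact absurd hd (hb.selfNorm hanti hab e.symm hp h)
    · exact Or.inl (hb'.not_dvd hanti hp h)
    · exact Or.inr (hb''.not_dvd hanti hp h)
  have c1 : 3 * ((conjSet (Zc z1)).ncard + 1) ≤ Nat.card G := by
    refine conjSet_count (N := Subgroup.normalizer (cen z1 : Set G))
      (normalizer_le_normalizer_Zc z1) ?_
    rw [hA1.zc_eq]
    have hlt := hw2 z1 z2 z3 hb1 hb2 hb3 hall hA1
    obtain ⟨d, hd⟩ := Subgroup.card_dvd_of_le hlt.le
    rw [hd, mul_comm]
    refine Nat.mul_le_mul_left _ ?_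
    have hd0 : d ≠ 0 := fun e => by
      rw [e, mul_zero] at hd
      exact Nat.card_pos.ne' hd
    have hd1' : d ≠ 1 := fun e => by
      rw [e, mul_one] at hd
      exact hlt.ne (Subgroup.eq_of_le_of_card_ge hlt.le hd.le)
    have hd2' : ¬ 2 ∣ d := by
      intro h2d
      refine hb1.not_dvd hanti Nat.prime_two hd1 (h2d.trans ⟨(Subgroup.normalizer
        (cen z1 : Set G)).index, Nat.eq_of_mul_eq_mul_left (Nat.card_pos (α := cen z1)) ?_⟩)
      rw [← mul_assoc, ← hd, Subgroup.card_mul_index, Subgroup.card_mul_index]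
    omega
  have hodd : ∀ z : G, Base z → sz z1 ≠ sz z → ¬ 2 ∣ Nat.card (cen z) := fun z hb hne' =>
    hs12 z1 z hb1 hb hne' 2 Nat.prime_two hd1
  have c2 : ∀ (z z' : G), Base z → Base z' → sz z1 ≠ sz z →
      (∀ p : ℕ, p.Prime → p ∣ Nat.card G →
        p ∣ Nat.card (cen z) ∨ p ∣ Nat.card (cen z1) ∨ p ∣ Nat.card (cen z')) →
      2 * ((conjSet (Zc z)).ncard + 1) ≤ Nat.card G ∧
        (¬ Ab (cen z) → 9 * ((conjSet (Zc z)).ncard + 1) ≤ Nat.card G) := by
    intro z z' hb hb' hne' hall'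
    have hN := normalizer_le_normalizer_Zc z
    have hcK : Nat.card (cen z) ≤ Nat.card (Subgroup.normalizer (cen z : Set G)) :=
      Nat.le_of_dvd Nat.card_pos (Subgroup.card_dvd_of_le Subgroup.le_normalizer)
    refine ⟨?_, fun h => conjSet_count hN ((hb.nine hanti h (hodd z hb hne')).trans hcK)⟩
    refine conjSet_count hN ?_
    by_cases h : Ab (cen z)
    · rw [h.zc_eq]
      exact two_mul_card_le (hw2 z z1 z' hb hb1 hb' hall' h)
    · have := hb.nine hanti h (hodd z hb hne')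
      omega
  have c2' := c2 z2 z3 hb2 hb3 h12 fun p hp hd => by have := hall p hp hd; tauto
  have c3' := c2 z3 z2 hb3 hb2 h13 fun p hp hd => by have := hall p hp hd; tauto
  have hcov : (Set.univ : Set G) ⊆
      insert 1 (conjSet (Zc z1) ∪ conjSet (Zc z2) ∪ conjSet (Zc z3)) := by
    intro g _
    by_cases hg : g = 1
    · exact Or.inl hg
    obtain ⟨c, hc⟩ := hcover g hg
    right
    rcases hc with hc | hc | hc
    · exact Or.inl (Or.inl ⟨hg, c, mem_Zc_of_cen_eq hc⟩)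
    · exact Or.inl (Or.inr ⟨hg, c, mem_Zc_of_cen_eq hc⟩)
    · exact Or.inr ⟨hg, c, mem_Zc_of_cen_eq hc⟩
  have hle := Set.ncard_le_ncard hcov (Set.toFinite _)
  rw [Set.ncard_univ] at hle
  have hi := Set.ncard_insert_le (1 : G) (conjSet (Zc z1) ∪ conjSet (Zc z2) ∪ conjSet (Zc z3))
  have hu := Set.ncard_union_le (conjSet (Zc z1) ∪ conjSet (Zc z2)) (conjSet (Zc z3))
  have hu' := Set.ncard_union_le (conjSet (Zc z1)) (conjSet (Zc z2))
  rcases not_and_or.1 hA with h | h
  · have := c2'.2 h; have := c3'.1; omega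
  · have := c3'.2 h; have := c2'.1; omega

/-- An antichain of at most three sizes: solvable or `PSL₂` in characteristic two. -/
theorem Anti.main (h3 : {n : ℕ | 1 < n ∧ ∃ x : G, sz x = n}.ncard ≤ 3)
    (hZ : Subgroup.center G = ⊥) (hns : ¬ Group.IsSolvable G) :
    ∃ f : ℕ, 2 ≤ f ∧ Nonempty
      (G ≃* Matrix.ProjectiveSpecialLinearGroup (Fin 2) (GaloisField 2 f)) := by
  have hc := hanti.ct h3 hZ hns
  haveI : Nontrivial G := by
    by_contra h
    haveI := not_nontrivial_iff_subsingleton.1 h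
    exact hns inferInstance
  have hTI : ∀ x : G, Cfsg.IsTISubset (CASimple.C x : Set G) := by
    intro x g hg y hy hgy
    by_contra hy1
    by_cases hx : x = 1
    · subst hx
      refine hg ?_
      rw [show (CASimple.C (1 : G)) = ⊤ from cen_eq_top_iff.2 (one_mem _),
        Subgroup.normalizer_eq_top]
      trivial
    refine hg ((CASimple.mem_N_iff hc hx).2 ?_)
    have e1 : CASimple.C y = CASimple.C x := CASimple.C_eq hc hx hy1 hy
    have e2 : CASimple.C (g * y * g⁻¹) = CASimple.C x :=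
      CASimple.C_eq hc hx (fun e => hy1 (conj_eq_one_iff.1 e)) hgy
    rw [← e2]
    exact (CASimple.conj_mem_C g).2 (e1.symm ▸ CASimple.self_mem_C x)
  refine TICent.psl_case hTI hZ fun H hH => hns ?_
  obtain ⟨K, hK⟩ := FrobData.exists_data hH
  obtain ⟨a, -, ha, hHa⟩ := TICent.exists_central hTI hK
  exact hK.isSolvable_iff.2 (Group.isSolvable_of_comm fun u v =>
    Subtype.ext (CASimple.comm_of_mem hc ha (hHa u.2) (hHa v.2)))

end Cfsg.Agent.ThreeClassSizes
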