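import Cfsg.Agent.Lib.ClassSizeTriple.Basic
import Cfsg.Agent.Lib.Solvable.KegelWielandt
import Cfsg.Agent.Lib.Solvable.Hall
import Mathlib.GroupTheory.Transfer

/-!
# Centreless groups with few class sizes: general lemmas
-/

set_option autoImplicit false
set_option linter.style.haveILetI false
set_option linter.unusedSectionVars false

namespace Cfsg.Agent.ThreeClassSizes

open Cfsg.Agent.ClassTriple

universe u

variable {G : Type u} [Group G] [Finite G]

lemma eq_one_of_center (hZ : Subgroup.center G = ⊥) {g : G} (h : sz g = 1) : g = 1 := by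
  have h1 := sz_eq_one_iff.1 h
  rwa [hZ, Subgroup.mem_bot] at h1

lemma one_lt_sz (hZ : Subgroup.center G = ⊥) {g : G} (hg : g ≠ 1) : 1 < sz g := by
  have h1 : sz g ≠ 1 := fun h => hg (eq_one_of_center hZ h)
  have h0 : sz g ≠ 0 := Subgroup.index_ne_zero_of_finite
  omega

lemma ne_one_of_sz {g : G} {n : ℕ} (hn : 1 < n) (h : sz g = n) : g ≠ 1 := by
  rintro rfl
  rw [sz_eq_one_iff.2 (one_mem _)] at h
  omega

lemma cen_eq_map_conj (h g : G) :
    (cen g).map (MulAut.conj h).toMonoidHom = cen (h * g * h⁻¹) := (cen_conj h g).symm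

lemma mem_cen_conj {h g y : G} : y ∈ cen (h * g * h⁻¹) ↔ h⁻¹ * y * h ∈ cen g := by
  rw [cen_conj, Subgroup.mem_map_equiv, MulAut.conj_symm_apply]

lemma card_cen_mul_sz (g : G) : Nat.card (cen g) * sz g = Nat.card G := Subgroup.card_mul_index _

lemma card_cen_eq {a b : G} (h : sz a = sz b) : Nat.card (cen a) = Nat.card (cen b) := by
  have h1 := card_cen_mul_sz a
  rw [h, ← card_cen_mul_sz b] at h1
  exact Nat.eq_of_mul_eq_mul_right (Nat.pos_of_ne_zero Subgroup.index_ne_zero_of_finite) h1

/-- An element of prime order among the powers. -/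
lemma exists_prime_pow {g : G} (hg : g ≠ 1) : ∃ (p : ℕ) (a : G), p.Prime ∧
    a ∈ Subgroup.zpowers g ∧ a ≠ 1 ∧ orderOf a = p := by
  obtain ⟨p, hp, hd⟩ := Nat.exists_prime_and_dvd (fun h => hg (orderOf_eq_one_iff.1 h))
  have := Fact.mk hp
  obtain ⟨⟨a, ha⟩, hao⟩ := exists_prime_orderOf_dvd_card' (G := Subgroup.zpowers g) p
    (by rwa [Nat.card_zpowers])
  rw [Subgroup.orderOf_mk] at hao
  exact ⟨p, a, hp, ha, fun e => hp.ne_one (by rw [← hao, e, orderOf_one]), hao⟩

lemma isPPow_of_orderOf {p : ℕ} {a : G} (h : orderOf a = p) : IsPPow p a :=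
  ⟨1, by rw [pow_one, ← h, pow_orderOf_eq_one]⟩

/-- A non-identity element has a power of prime order, hence a centraliser above it. -/
lemma exists_prime_above {g : G} (hg : g ≠ 1) : ∃ (p : ℕ) (a : G), p.Prime ∧ IsPPow p a ∧
    a ≠ 1 ∧ a ∈ Subgroup.zpowers g ∧ cen g ≤ cen a := by
  obtain ⟨p, a, hp, ha, ha1, hao⟩ := exists_prime_pow hg
  exact ⟨p, a, hp, isPPow_of_orderOf hao, ha1, ha, cen_le_of_mem_zpowers ha⟩

lemma exists_ne_one_of_dvd {p : ℕ} (hp : p.Prime) {H : Subgroup G} (h : p ∣ Nat.card H) :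
    ∃ e ∈ H, IsPPow p e ∧ e ≠ 1 := by
  have := Fact.mk hp
  obtain ⟨⟨e, he⟩, heo⟩ := exists_prime_orderOf_dvd_card' (G := H) p h
  rw [Subgroup.orderOf_mk] at heo
  exact ⟨e, he, isPPow_of_orderOf heo, fun e1 => hp.ne_one (by rw [← heo, e1, orderOf_one])⟩

lemma dvd_card_of_isPPow {p : ℕ} (hp : p.Prime) {H : Subgroup G} {e : G} (he : e ∈ H)
    (hep : IsPPow p e) (h1 : e ≠ 1) : p ∣ Nat.card H := by
  obtain ⟨k, hk⟩ := hep.orderOf_eq hp
  have hk0 : k ≠ 0 := fun h => h1 (orderOf_eq_one_iff.1 (by rw [hk, h, pow_zero]))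
  exact ((dvd_pow_self p hk0).trans hk.symm.dvd).trans (Subgroup.orderOf_dvd_natCard _ he)

/-- Every prime divisor of the group order has a non-trivial element centralising a Sylow
subgroup. -/
lemma exists_zp {p : ℕ} [Fact p.Prime] (P : Sylow p G) (hp : p ∣ Nat.card G) :
    ∃ z : G, z ≠ 1 ∧ z ∈ (P : Subgroup G) ∧ IsPPow p z ∧ (P : Subgroup G) ≤ cen z ∧ ¬ p ∣ sz z := by
  haveI : Nontrivial (P : Subgroup G) :=
    (Subgroup.nontrivial_iff_ne_bot _).2 (P.ne_bot_of_dvd_card hp)
  haveI := P.isPGroup'.center_nontrivial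
  obtain ⟨⟨w, hw⟩, hw1⟩ := exists_ne (1 : Subgroup.center (P : Subgroup G))
  have hle : (P : Subgroup G) ≤ cen (w : G) := fun y hy => mem_cen.2
    (congrArg Subtype.val (Subgroup.mem_center_iff.1 hw ⟨y, hy⟩)).symm
  exact ⟨w, fun e => hw1 (Subtype.ext (Subtype.ext e)), w.2, IsPPow.of_mem P.isPGroup' w.2, hle,
    not_dvd_sz P hle⟩

lemma fac_eq_of_not_dvd {p : ℕ} {H : Subgroup G} (h : ¬ p ∣ H.index) :
    (Nat.card H).factorization p = (Nat.card G).factorization p := by
  rw [← fac_index p H, Nat.factorization_eq_zero_of_not_dvd h, add_zero]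

/-- A subgroup of index prime to `p` contains a conjugate of any Sylow `p`-subgroup. -/
lemma exists_sylow_le {p : ℕ} [Fact p.Prime] {H : Subgroup G} (h : ¬ p ∣ H.index) :
    ∃ S : Sylow p G, (S : Subgroup G) ≤ H := by
  obtain ⟨Q⟩ := (inferInstance : Nonempty (Sylow p H))
  have hc : Nat.card (Q.1.map H.subtype) = p ^ (Nat.card G).factorization p := by
    rw [Subgroup.card_map_of_injective H.subtype_injective, Q.card_eq_multiplicity,
      fac_eq_of_not_dvd h]
  exact ⟨Sylow.ofCard _ hc, Subgroup.map_subtype_le _⟩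

/-- Some conjugate of a `p`-element lies in a subgroup of index prime to `p`. -/
lemma exists_conj_mem {p : ℕ} [Fact p.Prime] {H : Subgroup G} (h : ¬ p ∣ H.index) {e : G}
    (he : IsPPow p e) : ∃ c : G, c * e * c⁻¹ ∈ H := by
  obtain ⟨S, hS⟩ := exists_sylow_le h
  obtain ⟨P, hP⟩ := (he.isPGroup_zpowers (Fact.out)).exists_le_sylow
  obtain ⟨c, hc⟩ := MulAction.exists_smul_eq G P S
  refine ⟨c, hS ?_⟩
  rw [← hc]
  exact ⟨e, hP (Subgroup.mem_zpowers e), rfl⟩

lemma solvable_of_commutator (h : Group.IsSolvable (commutator G)) : Group.IsSolvable G :=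
  haveI : Group.IsSolvable (G ⧸ commutator G) := Group.isSolvable_of_comm fun a b => by
    induction a using QuotientGroup.induction_on with
    | H a =>
      induction b using QuotientGroup.induction_on with
      | H b =>
        rw [← QuotientGroup.mk_mul, ← QuotientGroup.mk_mul, QuotientGroup.eq]
        rw [show (a * b)⁻¹ * (b * a) = b⁻¹ * a⁻¹ * (b⁻¹)⁻¹ * (a⁻¹)⁻¹ by group]
        exact Subgroup.commutator_mem_commutator (Subgroup.mem_top _) (Subgroup.mem_top _)
  haveI := h
  Group.isSolvable_of_ker_le_range (commutator G).subtype (QuotientGroup.mk' (commutator G))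
    (by simp)

/-- A normal subgroup whose order is covered by two nilpotent subgroups is solvable. -/
theorem solvable_of_cover (L : Subgroup G) [L.Normal] {A B : Subgroup G}
    (hA : Group.IsNilpotent A) (hB : Group.IsNilpotent B)
    (hcov : ∀ p : ℕ, p.Prime → p ∣ Nat.card L → ¬ p ∣ A.index ∨ ¬ p ∣ B.index) :
    Group.IsSolvable L := by
  have hdA : (A.subgroupOf L).index ∣ A.index :=
    SolvStruct.relIndex_dvd_index_of_normal_right A L
  have hdB : (B.subgroupOf L).index ∣ B.index :=
    SolvStruct.relIndex_dvd_index_of_normal_right B L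
  have hco : (A.subgroupOf L).index.Coprime (B.subgroupOf L).index := by
    refine Nat.coprime_of_dvd' fun p hp h1 h2 => ?_
    rcases hcov p hp (h1.trans (Subgroup.index_dvd_card _)) with h | h
    · exact absurd (h1.trans hdA) h
    · exact absurd (h2.trans hdB) h
  exact KegelWielandt.product_solvable (KegelWielandt.isNilpotent_subgroupOf hA)
    (KegelWielandt.isNilpotent_subgroupOf hB) (HallSolv.exists_mul_of_coprime_index hco)

/-- A group whose order is covered by two nilpotent subgroups is solvable. -/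
theorem solvable_of_cover_top {A B : Subgroup G} (hA : Group.IsNilpotent A)
    (hB : Group.IsNilpotent B)
    (hcov : ∀ p : ℕ, p.Prime → p ∣ Nat.card G → ¬ p ∣ A.index ∨ ¬ p ∣ B.index) :
    Group.IsSolvable G := by
  have h := solvable_of_cover (⊤ : Subgroup G) hA hB fun p hp hd => hcov p hp
    (by rwa [Subgroup.card_top] at hd)
  exact Group.isSolvable_of_surjective (f := (Subgroup.topEquiv (G := G)).toMonoidHom)
    Subgroup.topEquiv.surjective

lemma isNilpotent_of_comm {H : Subgroup G} (h : ∀ a ∈ H, ∀ b ∈ H, a * b = b * a) :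
    Group.IsNilpotent H :=
  letI : CommGroup H :=
    { (inferInstance : Group H) with mul_comm := fun a b => Subtype.ext (h a a.2 b b.2) }
  CommGroup.isNilpotent

/-- Burnside: a Sylow subgroup central in its normaliser avoids the derived subgroup. -/
lemma not_dvd_commutator {p : ℕ} [Fact p.Prime] (P : Sylow p G)
    (h : Subgroup.normalizer ((P : Subgroup G) : Set G) ≤
      Subgroup.centralizer ((P : Subgroup G) : Set G)) :
    ¬ p ∣ Nat.card (commutator G) := by
  intro hd
  refine MonoidHom.not_dvd_card_ker_transferSylow P h (hd.trans (Subgroup.card_dvd_of_le ?_))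
  rw [commutator_def, Subgroup.commutator_le]
  intro a _ b _
  rw [MonoidHom.mem_ker, map_commutatorElement]
  haveI := h.trans' Subgroup.le_normalizer
  refine commutatorElement_eq_one_iff_mul_comm.2 (Subtype.ext ?_)
  exact (Subgroup.mem_centralizer_iff.1 (this ((MonoidHom.transferSylow P h) b).2)
    _ ((MonoidHom.transferSylow P h) a).2)

/-- The non-identity elements with a conjugate in `X`. -/
def conjSet (X : Subgroup G) : Set G := {g | g ≠ 1 ∧ ∃ c : G, c * g * c⁻¹ ∈ X}

/-- Counting the conjugates of a normalised subgroup. -/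
theorem conjSet_count {X N : Subgroup G}
    (hN : N ≤ Subgroup.normalizer (X : Set G)) {w : ℕ} (hw : w * Nat.card X ≤ Nat.card N) :
    w * ((conjSet X).ncard + 1) ≤ Nat.card G := by
  let f : (G ⧸ N) × {x : X // x ≠ 1} → G := fun a =>
    Quotient.out a.1 * ((a.2 : X) : G) * (Quotient.out a.1)⁻¹
  have hsub : conjSet X ⊆ Set.range f := by
    rintro g ⟨hg, c, hc⟩
    obtain ⟨⟨n, hn⟩, hout⟩ := QuotientGroup.mk_out_eq_mul N c⁻¹
    have hx : n⁻¹ * (c * g * c⁻¹) * n ∈ X := by
      have := (Subgroup.mem_normalizer_iff.1 (hN (N.inv_mem hn)) _).1 hc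
      simpa using this
    refine ⟨((c⁻¹ : G), ⟨⟨_, hx⟩, fun e => hg ?_⟩), ?_⟩
    · have e' : n⁻¹ * (c * g * c⁻¹) * n = 1 := congrArg Subtype.val e
      calc g = c⁻¹ * (n * (n⁻¹ * (c * g * c⁻¹) * n) * n⁻¹) * c := by group
        _ = 1 := by rw [e']; group
    · show Quotient.out (QuotientGroup.mk c⁻¹ : G ⧸ N) * _ * _ = g
      rw [hout]
      group
  have h1 : (conjSet X).ncard ≤ N.index * (Nat.card X - 1) := by
    refine (Set.ncard_le_ncard hsub (Set.toFinite _)).trans ?_
    refine (Finite.card_range_le f).trans ?_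
    rw [Nat.card_prod, ← Subgroup.index_eq_card]
    refine Nat.mul_le_mul_left _ (le_of_eq ?_)
    have h := Set.ncard_add_ncard_compl ({1} : Set X)
    rw [Set.ncard_singleton, ← Nat.card_coe_set_eq] at h
    have h' : Nat.card {x : X // x ≠ 1} = Nat.card ↥({1}ᶜ : Set X) := rfl
    omega
  have hi : 1 ≤ N.index := Nat.pos_of_ne_zero Subgroup.index_ne_zero_of_finite
  have hX : 1 ≤ Nat.card X := Nat.card_pos
  have h2 : (conjSet X).ncard + 1 ≤ N.index * Nat.card X := by
    have h3 : N.index * (Nat.card X - 1) + N.index = N.index * Nat.card X := by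
      rw [← Nat.mul_succ]; congr 1; omega
    omega
  calc w * ((conjSet X).ncard + 1) ≤ w * (N.index * Nat.card X) := Nat.mul_le_mul_left _ h2
    _ = N.index * (w * Nat.card X) := by ring
    _ ≤ N.index * Nat.card N := Nat.mul_le_mul_left _ hw
    _ = Nat.card G := Subgroup.index_mul_card _

/-- A proper subgroup inside another one has at most half its order. -/
lemma two_mul_card_le {H K : Subgroup G} (h : H < K) : 2 * Nat.card H ≤ Nat.card K := by
  obtain ⟨c, hc⟩ := Subgroup.card_dvd_of_le h.le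
  have hc0 : c ≠ 0 := fun e => by
    rw [e, mul_zero] at hc; exact (Nat.card_pos (α := K)).ne' hc
  have hc1 : c ≠ 1 := fun e => by
    rw [e, mul_one] at hc; exact h.ne (Subgroup.eq_of_le_of_card_ge h.le hc.le)
  rw [hc, mul_comm]
  exact Nat.mul_le_mul_left _ (by omega)

end Cfsg.Agent.ThreeClassSizes
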