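import Cfsg.Agent.Lib.ThreeClassSizes.Basic

/-!
# Class sizes `m`, `M`, `k` with `m ∣ M` and `k` prime to `m`: general facts; the case `k ∣ M`
-/

set_option autoImplicit false
set_option linter.style.haveILetI false
set_option linter.unusedSectionVars false

namespace Cfsg.Agent.ThreeClassSizes

open Cfsg.Agent.ClassTriple

universe u

variable {G : Type u} [Group G] [Finite G]

/-- Three sizes with one chain. -/
structure Three (G : Type u) [Group G] (m M k : ℕ) : Prop where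
  center : Subgroup.center G = ⊥
  one_lt_m : 1 < m
  one_lt_k : 1 < k
  dvd : m ∣ M
  lt : m < M
  cop : m.Coprime k
  sizes : ∀ g : G, g ≠ 1 → sz g = m ∨ sz g = M ∨ sz g = k
  ex_m : ∃ g : G, sz g = m
  ex_M : ∃ g : G, sz g = M
  ex_k : ∃ g : G, sz g = k

variable {m M k : ℕ}

namespace Three

variable (h : Three G m M k)
include h

lemma not_m_dvd_k : ¬ m ∣ k := fun hd =>
  h.one_lt_m.ne' (Nat.eq_one_of_dvd_coprimes h.cop dvd_rfl hd)

lemma not_M_dvd_k : ¬ M ∣ k := fun hd => h.not_m_dvd_k (h.dvd.trans hd)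

lemma not_k_dvd_m : ¬ k ∣ m := fun hd =>
  h.one_lt_k.ne' (Nat.eq_one_of_dvd_coprimes h.cop hd dvd_rfl)

lemma not_M_dvd_m : ¬ M ∣ m := fun hd =>
  absurd (Nat.le_of_dvd (by have := h.one_lt_m; omega) hd) (not_le.2 h.lt)

lemma m_pos : 0 < m := lt_trans one_pos h.one_lt_m

lemma k_pos : 0 < k := lt_trans one_pos h.one_lt_k

lemma not_dvd_k_of_dvd_m {r : ℕ} (hr : r.Prime) (hrm : r ∣ m) : ¬ r ∣ k := fun hd =>
  hr.not_dvd_one (h.cop ▸ Nat.dvd_gcd hrm hd)

lemma dvd_card {g : G} {n : ℕ} (hg : sz g = n) : n ∣ Nat.card G :=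
  hg ▸ Subgroup.index_dvd_card _

lemma ne_one {g : G} {n : ℕ} (hn : 1 < n) (hg : sz g = n) : g ≠ 1 := ne_one_of_sz hn hg

lemma primary_m : ∃ (p : ℕ) (x : G), p.Prime ∧ IsPPow p x ∧ x ≠ 1 ∧ sz x = m := by
  obtain ⟨g, hg⟩ := h.ex_m
  obtain ⟨p, a, hp, ha, ha1, -, hle⟩ := exists_prime_above (h.ne_one h.one_lt_m hg)
  have hd := hg ▸ sz_dvd hle
  rcases h.sizes a ha1 with e | e | e
  · exact ⟨p, a, hp, ha, ha1, e⟩
  · exact absurd (e ▸ hd) h.not_M_dvd_m
  · exact absurd (e ▸ hd) h.not_k_dvd_m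

/-- The type of a central element of a Sylow subgroup, for a prime dividing `m`. -/
lemma exists_k {r : ℕ} [Fact r.Prime] (R : Sylow r G) (hrm : r ∣ m) :
    ∃ v : G, v ≠ 1 ∧ v ∈ (R : Subgroup G) ∧ IsPPow r v ∧ (R : Subgroup G) ≤ cen v ∧ sz v = k := by
  obtain ⟨g, hg⟩ := h.ex_m
  obtain ⟨v, h1, h2, h3, h4, h5⟩ := exists_zp R (hrm.trans (h.dvd_card hg))
  refine ⟨v, h1, h2, h3, h4, ?_⟩
  rcases h.sizes v h1 with e | e | e
  · exact absurd (e ▸ hrm) h5
  · exact absurd (e ▸ hrm.trans h.dvd) h5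
  · exact e

lemma inf_index {x v : G} (hx : sz x = m) (hv : sz v = k) :
    (cen x ⊓ cen v).index = m * k := by
  refine le_antisymm (Subgroup.index_inf_le.trans (le_of_eq (by rw [← hx, ← hv]))) ?_
  refine Nat.le_of_dvd (Nat.pos_of_ne_zero Subgroup.index_ne_zero_of_finite)
    (h.cop.mul_dvd_of_dvd_of_dvd ?_ ?_)
  · exact hx ▸ Subgroup.index_dvd_of_le inf_le_left
  · exact hv ▸ Subgroup.index_dvd_of_le inf_le_right

/-- The case where the class sizes are those of two coprime factors. -/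
lemma pair_false {p q : ℕ} (hp : p.Prime) (hq : q.Prime) (hpq : p ≠ q) {x v : G}
    (hx : IsPPow p x) (hv : IsPPow q v) (hxm : sz x = m) (hvk : sz v = k) (hc : v ∈ cen x)
    (hne : M ≠ m * k) : False := by
  have e := cen_mul_eq (mem_cen.1 hc) (hx.coprime hp hq hpq hv)
  have h1 : sz (x * v) = m * k := by
    show (cen (x * v)).index = _
    rw [e, h.inf_index hxm hvk]
  have h2 : x * v ≠ 1 := h.ne_one (Nat.one_lt_mul_iff.2
    ⟨h.m_pos, h.k_pos, Or.inl h.one_lt_m⟩) h1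
  rcases h.sizes _ h2 with e | e | e <;> rw [h1] at e
  · exact h.one_lt_k.ne' (Nat.eq_of_mul_eq_mul_left h.m_pos (e.trans (mul_one m).symm))
  · exact hne e.symm
  · exact h.one_lt_m.ne' (Nat.eq_of_mul_eq_mul_right h.k_pos (e.trans (one_mul k).symm))

/-- For `k ∣ M` the chain can be turned round. -/
lemma symm (hk : k ∣ M) : Three G k M m where
  center := h.center
  one_lt_m := h.one_lt_k
  one_lt_k := h.one_lt_m
  dvd := hk
  lt := by
    refine lt_of_le_of_ne (Nat.le_of_dvd (lt_trans h.m_pos h.lt) hk) fun e => ?_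
    exact h.not_M_dvd_k (e ▸ dvd_rfl)
  cop := h.cop.symm
  sizes g hg := by
    rcases h.sizes g hg with e | e | e
    · exact .inr (.inr e)
    · exact .inr (.inl e)
    · exact .inl e
  ex_m := h.ex_k
  ex_M := h.ex_M
  ex_k := h.ex_m

/-- The order of the intersection of centralisers of the two types. -/
lemma card_eq {x v : G} (hx : sz x = m) (hv : sz v = k) :
    Nat.card (cen x ⊓ cen v : Subgroup G) * (m * k) = Nat.card G := by
  rw [← h.inf_index hx hv, Subgroup.card_mul_index]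

lemma mk_dvd (hk : k ∣ M) : m * k ∣ M := h.cop.mul_dvd_of_dvd_of_dvd h.dvd hk

lemma one_lt_inf (hk : k ∣ M) (hne : M ≠ m * k) {x v : G} (hx : sz x = m) (hv : sz v = k) :
    1 < Nat.card (cen x ⊓ cen v : Subgroup G) := by
  obtain ⟨g, hg⟩ := h.ex_M
  have hM := h.dvd_card hg
  rw [← h.card_eq hx hv] at hM
  by_contra hlt
  have h1 : Nat.card (cen x ⊓ cen v : Subgroup G) = 1 := by
    have := Nat.card_pos (α := (cen x ⊓ cen v : Subgroup G)); omega
  rw [h1, one_mul] at hM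
  exact hne (Nat.dvd_antisymm hM (h.mk_dvd hk))

/-- Primes of the intersection. -/
lemma inf_primes (hk : k ∣ M) (hne : M ≠ m * k) {r t : ℕ} (hr : r.Prime) (ht : t.Prime)
    (hrt : r ≠ t) {x v : G} (hx : IsPPow t x) (hv : IsPPow r v) (hxm : sz x = m) (hvk : sz v = k)
    {s : ℕ} (hs : s.Prime) (hd : s ∣ Nat.card (cen x ⊓ cen v : Subgroup G)) : s = r ∨ s = t := by
  by_contra hc
  rw [not_or] at hc
  obtain ⟨y, hy, hys, hy1⟩ := exists_ne_one_of_dvd hs hd
  have hyM : sz y = M := by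
    rcases h.sizes y hy1 with e | e | e
    · exact (h.pair_false hs hr hc.1 hys hv e hvk (mem_cen_symm hy.2) hne).elim
    · exact e
    · exact (h.pair_false ht hs (Ne.symm hc.2) hx hys hxm e hy.1 hne).elim
  have key : ∀ {w : G} {p : ℕ}, p.Prime → p ≠ s → IsPPow p w → w ≠ 1 → y ∈ cen w →
      cen y ≤ cen w := by
    intro w p hp hps hw hw1 hyw
    have e := cen_mul_eq (mem_cen.1 hyw) (hw.coprime hp hs hps hys)
    have hd1 : sz y ∣ sz (w * y) := Subgroup.index_dvd_of_le (e.le.trans inf_le_right)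
    have hne1 : w * y ≠ 1 := fun h1 => by
      rw [h1, sz_eq_one_iff.2 (one_mem _), hyM] at hd1
      have := Nat.le_of_dvd one_pos hd1
      have := h.one_lt_m
      have := h.lt
      omega
    have hsz : sz (w * y) = M := by
      rcases h.sizes _ hne1 with e' | e' | e'
      · exact absurd (hyM ▸ e' ▸ hd1) h.not_M_dvd_m
      · exact e'
      · exact absurd (hyM ▸ e' ▸ hd1) h.not_M_dvd_k
    have heq := eq_of_le_of_index (e.le.trans inf_le_right) (hsz.trans hyM.symm)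
    rw [← heq, e]
    exact inf_le_left
  have h1 := key ht (Ne.symm hc.2) hx (h.ne_one h.one_lt_m hxm) hy.1
  have h2 := key hr (Ne.symm hc.1) hv (h.ne_one h.one_lt_k hvk) hy.2
  exact h.pair_false ht hr (Ne.symm hrt) hx hv hxm hvk
    (mem_cen_symm (h2 (mem_cen_symm hy.1))) hne

/-- The types of central elements of Sylow subgroups for primes of `m` and `k`. -/
lemma exists_pair (hk : k ∣ M) {r t : ℕ} (hr : r.Prime) (ht : t.Prime) (hrm : r ∣ m)
    (htk : t ∣ k) : ∃ x v : G, IsPPow t x ∧ IsPPow r v ∧ sz x = m ∧ sz v = k := by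
  haveI := Fact.mk hr
  haveI := Fact.mk ht
  obtain ⟨R⟩ := (inferInstance : Nonempty (Sylow r G))
  obtain ⟨T⟩ := (inferInstance : Nonempty (Sylow t G))
  obtain ⟨v, -, -, hv, -, hvk⟩ := h.exists_k R hrm
  obtain ⟨x, -, -, hx, -, hxm⟩ := (h.symm hk).exists_k T htk
  exact ⟨x, v, hx, hv, hxm, hvk⟩

/-- Two primes in `m` are impossible. -/
lemma a_case (hk : k ∣ M) (hne : M ≠ m * k) {r r' t : ℕ} (hr : r.Prime) (hr' : r'.Prime)
    (hne' : r ≠ r') (ht : t.Prime) (hrm : r ∣ m) (hr'm : r' ∣ m) (htk : t ∣ k) : False := by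
  have hcop : ∀ {a b : ℕ}, a.Prime → a ∣ m → b ∣ k → a ≠ b := fun {a b} ha h1 h2 e =>
    h.not_dvd_k_of_dvd_m ha h1 (e ▸ h2)
  obtain ⟨x, v, hx, hv, hxm, hvk⟩ := h.exists_pair hk hr ht hrm htk
  have hdd : ∀ {x' v' : G}, sz x' = m → sz v' = k →
      Nat.card (cen x' ⊓ cen v' : Subgroup G) = Nat.card (cen x ⊓ cen v : Subgroup G) := by
    intro x' v' h1 h2
    exact Nat.eq_of_mul_eq_mul_right (Nat.mul_pos h.m_pos h.k_pos)
      ((h.card_eq h1 h2).trans (h.card_eq hxm hvk).symm)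
  have honly : ∀ s : ℕ, s.Prime → s ∣ Nat.card (cen x ⊓ cen v : Subgroup G) → s = t := by
    intro s hs hd
    obtain ⟨x', v', hx', hv', hxm', hvk'⟩ := h.exists_pair hk hr' ht hr'm htk
    rcases h.inf_primes hk hne hr ht (hcop hr hrm htk) hx hv hxm hvk hs hd with e | e
    · rcases h.inf_primes hk hne hr' ht (hcop hr' hr'm htk) hx' hv' hxm' hvk' hs
        (hdd hxm' hvk' ▸ hd) with e' | e'
      · exact absurd (e.symm.trans e') hne'
      · exact e'
    · exact e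
  obtain ⟨s, hs, hsd⟩ := Nat.exists_prime_and_dvd (h.one_lt_inf hk hne hxm hvk).ne'
  obtain rfl := honly s hs hsd
  obtain ⟨y, hy, hyt, hy1⟩ := exists_ne_one_of_dvd hs hsd
  have hrs := hcop hr hrm htk
  have e := cen_mul_eq (mem_cen.1 hy.2) (hv.coprime hr hs hrs hyt)
  have hd1 : k ∣ sz (v * y) := hvk ▸ Subgroup.index_dvd_of_le (e.le.trans inf_le_left)
  have hne1 : v * y ≠ 1 := fun h1 => by
    rw [h1, sz_eq_one_iff.2 (one_mem _)] at hd1
    exact absurd (Nat.le_of_dvd one_pos hd1) (not_le.2 h.one_lt_k)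
  rcases h.sizes _ hne1 with e' | e' | e'
  · exact h.not_k_dvd_m (e' ▸ hd1)
  · -- the centraliser would be a group of order prime to `r`
    obtain ⟨l, hl⟩ := h.mk_dvd hk
    have h1 := card_cen_mul_sz (v * y)
    rw [e', hl, ← h.card_eq hxm hvk] at h1
    have h2 : Nat.card (cen (v * y)) * l = Nat.card (cen x ⊓ cen v : Subgroup G) :=
      Nat.eq_of_mul_eq_mul_right (Nat.mul_pos h.m_pos h.k_pos) (by rw [← h1]; ring)
    have h3 : v ∈ cen (v * y) := by
      rw [e]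
      exact ⟨mem_cen_self v, mem_cen_symm hy.2⟩
    exact hrs (honly r hr (h2 ▸ dvd_mul_of_dvd_left
      (dvd_card_of_isPPow hr h3 hv (h.ne_one h.one_lt_k hvk)) l))
  · have h1 : cen (v * y) = cen v :=
      eq_of_le_of_index (e.le.trans inf_le_left) (e'.trans hvk.symm)
    have h2 : cen v ≤ cen y := h1 ▸ e.le.trans inf_le_right
    have h3 : sz y ∣ k := hvk ▸ sz_dvd h2
    have h4 : sz y = k := by
      rcases h.sizes y hy1 with e'' | e'' | e''
      · exact absurd (e'' ▸ h3) h.not_m_dvd_k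
      · exact absurd (e'' ▸ h3) h.not_M_dvd_k
      · exact e''
    have h5 := eq_of_le_of_index h2 (hvk.trans h4.symm)
    exact h.pair_false hs hr (Ne.symm hrs) hx hv hxm hvk
      (mem_cen_symm (h5 ▸ mem_cen_symm hy.1)) hne

/-- The case `k ∣ M`, `M ≠ m k`. -/
theorem solvable_of_dvd (hk : k ∣ M) (hne : M ≠ m * k) : Group.IsSolvable G := by
  obtain ⟨r, hr, hrm⟩ := Nat.exists_prime_and_dvd h.one_lt_m.ne'
  obtain ⟨t, ht, htk⟩ := Nat.exists_prime_and_dvd h.one_lt_k.ne'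
  by_cases h1 : ∃ r' : ℕ, r'.Prime ∧ r' ∣ m ∧ r' ≠ r
  · obtain ⟨r', h1, h2, h3⟩ := h1
    exact (h.a_case hk hne hr h1 h3.symm ht hrm h2 htk).elim
  by_cases h2 : ∃ t' : ℕ, t'.Prime ∧ t' ∣ k ∧ t' ≠ t
  · obtain ⟨t', h1, h2, h3⟩ := h2
    exact ((h.symm hk).a_case h.dvd (mul_comm m k ▸ hne) ht h1 h3.symm hr htk h2 hrm).elim
  push Not at h1 h2
  haveI := Fact.mk hr
  haveI := Fact.mk ht
  obtain ⟨R⟩ := (inferInstance : Nonempty (Sylow r G))
  obtain ⟨T⟩ := (inferInstance : Nonempty (Sylow t G))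
  refine solvable_of_cover_top R.isPGroup'.isNilpotent T.isPGroup'.isNilpotent fun p hp hd => ?_
  obtain ⟨x, v, hx, hv, hxm, hvk⟩ := h.exists_pair hk hr ht hrm htk
  rw [← h.card_eq hxm hvk] at hd
  have hpp : p = r ∨ p = t := by
    rcases (Nat.Prime.dvd_mul hp).1 hd with hd' | hd'
    · exact h.inf_primes hk hne hr ht (fun e => h.not_dvd_k_of_dvd_m hr hrm (e ▸ htk)) hx hv hxm
        hvk hp hd'
    · rcases (Nat.Prime.dvd_mul hp).1 hd' with hd'' | hd''
      · exact Or.inl (h1 p hp hd'')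
      · exact Or.inr (h2 p hp hd'')
  rcases hpp with rfl | rfl
  · exact Or.inl R.not_dvd_index
  · exact Or.inr T.not_dvd_index

end Three

end Cfsg.Agent.ThreeClassSizes
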