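import Cfsg.Agent.Lib.ThreeClassSizes.InH
import Cfsg.Agent.Lib.ThreeClassSizes.Antichain
import Cfsg.Agent.Lib.Solvable.Frobenius
import Cfsg.Agent.Lib.ClassSizeQuad.Final

/-!
# Class sizes `m`, `M`, `k`: the case `k ∤ M`, and the conclusion
-/

set_option autoImplicit false
set_option linter.style.haveILetI false
set_option linter.unusedSectionVars false

namespace Cfsg.Agent.ThreeClassSizes

open Cfsg.Agent.ClassTriple

universe u

variable {G : Type u} [Group G] [Finite G] {m M k : ℕ}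

lemma ab_of_primary {H : Subgroup G}
    (h : ∀ p : ℕ, p.Prime → ∀ a ∈ H, IsPPow p a → H ≤ cen a) : Ab H := by
  intro a ha b hb
  have : a ∈ Subgroup.centralizer (H : Set G) := mem_of_primary fun p hp w hw hwp =>
    Subgroup.mem_centralizer_iff.2 fun c hc =>
      (mem_cen.1 (h p hp w ((Subgroup.zpowers_le.2 ha) hw) hwp hc)).symm
  exact (Subgroup.mem_centralizer_iff.1 this b hb).symm

lemma normalizer_le_normalizer_centralizer' (H : Subgroup G) :
    Subgroup.normalizer (H : Set G) ≤
      Subgroup.normalizer ((Subgroup.centralizer (H : Set G) : Subgroup G) : Set G) := by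
  have key : ∀ g ∈ Subgroup.normalizer (H : Set G), ∀ x ∈ Subgroup.centralizer (H : Set G),
      g * x * g⁻¹ ∈ Subgroup.centralizer (H : Set G) := by
    intro g hg x hx
    refine Subgroup.mem_centralizer_iff.2 fun y hy => ?_
    have hy' : g⁻¹ * y * g ∈ H := by
      have := (Subgroup.mem_normalizer_iff.1 (Subgroup.inv_mem _ hg) y).1 hy
      simpa using this
    have h := Subgroup.mem_centralizer_iff.1 hx _ hy'
    calc y * (g * x * g⁻¹) = g * ((g⁻¹ * y * g) * x) * g⁻¹ := by group
      _ = g * (x * (g⁻¹ * y * g)) * g⁻¹ := by rw [h]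
      _ = g * x * g⁻¹ * y := by group
  intro g hg
  refine Subgroup.mem_normalizer_iff.2 fun x => ⟨key g hg x, fun h => ?_⟩
  have := key g⁻¹ (Subgroup.inv_mem _ hg) _ h
  simpa [mul_assoc] using this

namespace Three

variable (h : Three G m M k)
include h

/-- The centraliser of the chosen element of size `k`. -/
structure NData (v : G) : Prop where
  sz_eq : sz v = k
  ne_one : v ≠ 1
  hall : ∀ p : ℕ, p.Prime → p ∣ Nat.card (cen v) → ¬ p ∣ k
  nilp : Group.IsNilpotent (cen v)
  conj : ∀ g : G, sz g = k → ∃ c : G, cen (c * g * c⁻¹) = cen v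

lemma exists_NData (hk : ¬ k ∣ M) : ∃ v : G, NData (k := k) v := by
  obtain ⟨r, hr, hrm⟩ := Nat.exists_prime_and_dvd h.one_lt_m.ne'
  haveI := Fact.mk hr
  obtain ⟨R⟩ := (inferInstance : Nonempty (Sylow r G))
  obtain ⟨v, hv1, hvR, hvr, hRv, hvk⟩ := h.exists_k R hrm
  have hrk := h.not_dvd_k_of_dvd_m hr hrm
  refine ⟨v, ?_⟩
  suffices hs : (∀ p : ℕ, p.Prime → p ∣ Nat.card (cen v) → ¬ p ∣ k) ∧
      Group.IsNilpotent (cen v) ∧
      (∀ (p : ℕ) (a : G), p.Prime → IsPPow p a → a ≠ 1 → sz a = k →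
        ∃ c : G, cen (c * a * c⁻¹) = cen v) by
    refine ⟨hvk, hv1, hs.1, hs.2.1, fun g hg => ?_⟩
    obtain ⟨p, a, hp, ha, ha1, -, hle⟩ := exists_prime_above (h.ne_one h.one_lt_k hg)
    have hd : sz a ∣ k := hg ▸ sz_dvd hle
    have hak : sz a = k := by
      rcases h.sizes a ha1 with e | e | e
      · exact absurd (e ▸ hd) h.not_m_dvd_k
      · exact absurd (e ▸ hd) h.not_M_dvd_k
      · exact e
    obtain ⟨c, hc⟩ := hs.2.2 p a hp ha ha1 hak
    refine ⟨c, ?_⟩
    rw [← hc, cen_conj, cen_conj, eq_of_le_of_index hle (hg.trans hak.symm)]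
  have hcard : ∀ {a : G}, sz a = k → Nat.card (cen a) = Nat.card (cen v) := fun e =>
    card_cen_eq (e.trans hvk.symm)
  by_cases hw : ∃ (p : ℕ) (w : G), p.Prime ∧ p ≠ r ∧ IsPPow p w ∧ w ≠ 1 ∧ w ∈ cen v
  · obtain ⟨p, w, hp, hpr, hwp, hw1, hwv⟩ := hw
    have hwN := h.coprime_k hk hw1 hvk hwv (hvr.coprime hr hp (Ne.symm hpr) hwp)
    have hwk : sz w = k := (congrArg Subgroup.index hwN).trans hvk
    have hall : ∀ s : ℕ, s.Prime → ∀ e ∈ cen v, IsPPow s e → e ≠ 1 → cen e = cen v := by
      intro s hs e he hes he1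
      by_cases hsr : s = r
      · rw [← hwN] at he ⊢
        exact h.coprime_k hk he1 hwk he (hwp.coprime hp hs (hsr ▸ hpr) hes)
      · exact h.coprime_k hk he1 hvk he (hvr.coprime hr hs (Ne.symm hsr) hes)
    have hab : Ab (cen v) := ab_of_primary fun s hs a ha has => by
      by_cases ha1 : a = 1
      · subst ha1; exact fun y _ => mem_cen.2 (by simp)
      · exact (hall s hs a ha has ha1).ge
    have hH : ∀ s : ℕ, s.Prime → s ∣ Nat.card (cen v) → ¬ s ∣ k := by
      intro s hs hd
      haveI := Fact.mk hs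
      obtain ⟨e, he, hes, he1⟩ := exists_ne_one_of_dvd hs hd
      obtain ⟨S, hS⟩ := (hes.isPGroup_zpowers hs).exists_le_sylow
      obtain ⟨z, hz1, -, hzs, hSz, hzn⟩ :=
        exists_zp S (hd.trans (Subgroup.card_subgroup_dvd_card _))
      have hz : z ∈ cen v :=
        hall s hs e he hes he1 ▸ mem_cen_symm (hSz (hS (Subgroup.mem_zpowers e)))
      have hzk : sz z = k := (congrArg Subgroup.index (hall s hs z hz hzs hz1)).trans hvk
      exact hzk ▸ hzn
    refine ⟨hH, isNilpotent_of_comm hab, fun s a hs has ha1 hak => ?_⟩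
    haveI := Fact.mk hs
    have hsN : s ∣ Nat.card (cen v) :=
      hcard hak ▸ dvd_card_of_isPPow hs (mem_cen_self a) has ha1
    obtain ⟨c, hc⟩ := exists_conj_mem (H := cen v) (fun hd => hH s hs hsN (hvk ▸ hd)) has
    exact ⟨c, hall s hs _ hc (has.conj c) fun e => ha1 (conj_eq_one_iff.1 e)⟩
  · push Not at hw
    have honly : ∀ p : ℕ, p.Prime → p ∣ Nat.card (cen v) → p = r := by
      intro p hp hd
      by_contra hpr
      obtain ⟨w, hwv, hwp, hw1⟩ := exists_ne_one_of_dvd hp hd
      exact hw p w hp hpr hwp hw1 hwv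
    have hN : IsPGroup r (cen v) :=
      IsPGroup.of_card (Nat.eq_prime_pow_of_unique_prime_dvd Nat.card_pos.ne' (honly _))
    have hNR : cen v = (R : Subgroup G) := R.is_maximal' hN hRv
    refine ⟨fun p hp hd => honly p hp hd ▸ hrk, hN.isNilpotent, fun s a hs has ha1 hak => ?_⟩
    have hc : Nat.card (cen a) = r ^ (Nat.card G).factorization r := by
      rw [hcard hak, hNR, R.card_eq_multiplicity]
    obtain ⟨c, hc'⟩ := MulAction.exists_smul_eq G (Sylow.ofCard (cen a) hc) R
    refine ⟨c, ?_⟩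
    rw [cen_conj, hNR, ← hc']
    rfl

/-- The case `k ∤ M`. -/
theorem solvable_of_not_dvd (hk : ¬ k ∣ M) : Group.IsSolvable G := by
  by_contra hns
  obtain ⟨v, hv⟩ := h.exists_NData hk
  obtain ⟨g₀, hg₀⟩ := h.ex_k
  have hGk : ∀ p : ℕ, p.Prime → p ∣ Nat.card G → ¬ p ∣ (cen v).index ∨ p ∣ k := fun p _ _ => by
    by_cases hp : p ∣ k
    · exact Or.inr hp
    · exact Or.inl (show ¬ p ∣ sz v from hv.sz_eq ▸ hp)
  by_cases hbad : ∃ s : ℕ, ∃ (_ : Fact s.Prime) (S : Sylow s G), s ∣ k ∧ ¬ s ∣ M ∧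
      ¬ Subgroup.normalizer ((S : Subgroup G) : Set G) ≤
        Subgroup.centralizer ((S : Subgroup G) : Set G)
  · obtain ⟨s, hs, S, hsk, hsM, hS⟩ := hbad
    have hsm : ¬ s ∣ m := fun hd => hsM (hd.trans h.dvd)
    set C := Subgroup.centralizer ((S : Subgroup G) : Set G) with hC
    have c1 : 2 * ((conjSet C).ncard + 1) ≤ Nat.card G :=
      conjSet_count (normalizer_le_normalizer_centralizer' _)
        (two_mul_card_le (lt_of_le_of_ne (fun c hc => Subgroup.mem_normalizer_iff.2 fun y =>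
          ⟨fun hy => by rwa [← Subgroup.mem_centralizer_iff.1 hc y hy, mul_inv_cancel_right],
           fun hy => by
            have e := Subgroup.mem_centralizer_iff.1 hc _ hy
            have e2 : c * y * c⁻¹ = y := by
              calc c * y * c⁻¹ = c⁻¹ * (c * (c * y * c⁻¹)) := by group
                _ = c⁻¹ * (c * y * c⁻¹ * c) := by rw [e]
                _ = y := by group
            rwa [e2] at hy⟩) (fun e => hS e.ge)))
    have c2 : 2 * ((conjSet (Zc v)).ncard + 1) ≤ Nat.card G := by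
      refine conjSet_count (normalizer_le_normalizer_Zc v) (two_mul_card_le
        (lt_of_le_of_ne ((Zc_le v).trans Subgroup.le_normalizer) fun e => hns ?_))
      have hab : Ab (cen v) := fun a ha b hb =>
        (Subgroup.mem_centralizer_iff.1 (e ▸ Subgroup.le_normalizer ha : a ∈ Zc v).2 b hb).symm
      have hN : Subgroup.normalizer (cen v : Set G) = cen v := by rw [← e, hab.zc_eq]
      have hfree : ∀ p : ℕ, p.Prime → p ∣ Nat.card (cen v) → ¬ p ∣ Nat.card (commutator G) := by
        intro p hp hd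
        haveI := Fact.mk hp
        obtain ⟨P, hP⟩ := exists_sylow_le (H := cen v) (fun hd' => hv.hall p hp hd (hv.sz_eq ▸ hd'))
        refine not_dvd_commutator P fun g hg => ?_
        have hgN : g ∈ cen v := by
          obtain ⟨z, hz1, hzP, hzp, hPz, hzn⟩ :=
            exists_zp P (hd.trans (Subgroup.card_subgroup_dvd_card _))
          have hle : ∀ u : G, u ∈ cen v → u ≠ 1 → cen v ≤ cen u := fun u hu _ a ha =>
            mem_cen.2 (hab u hu a ha)
          have heq : ∀ u : G, u ∈ cen v → u ≠ 1 → cen v = cen u := by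
            intro u hu hu1
            have h3 : sz u ∣ k := hv.sz_eq ▸ sz_dvd (hle u hu hu1)
            refine eq_of_le_of_index (hle u hu hu1) (hv.sz_eq.trans ?_)
            rcases h.sizes u hu1 with e' | e' | e'
            · exact absurd (e' ▸ h3) h.not_m_dvd_k
            · exact absurd (e' ▸ h3) h.not_M_dvd_k
            · exact e'.symm
          have hgz : g * z * g⁻¹ ∈ (P : Subgroup G) := (Subgroup.mem_normalizer_iff.1 hg z).1 hzP
          have e1 := heq z (hP hzP) hz1
          have e2 := heq _ (hP hgz) fun e' => hz1 (conj_eq_one_iff.1 e')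
          rw [← hN, Subgroup.mem_normalizer_iff]
          intro y
          conv_lhs => rw [e1]
          conv_rhs => rw [e2, mem_cen_conj]
          simp [mul_assoc]
        exact Subgroup.mem_centralizer_iff.2 fun y hy => hab y (hP hy) g hgN
      refine solvable_of_commutator ?_
      haveI : Group.IsNilpotent (commutator G) := by
        refine FrobeniusStruct.nilpotent_of_fpf (H := Subgroup.zpowers v)
          (Subgroup.zpowers_ne_bot.2 hv.ne_one) fun a ha ha1 => ?_
        rw [eq_bot_iff]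
        intro b hb
        rw [Subgroup.mem_bot]
        by_contra hb1
        obtain ⟨p, b', hp, hb'p, hb'1, hb', -⟩ := exists_prime_above hb1
        have h3 : sz a ∣ k := hv.sz_eq ▸ sz_dvd (cen_le_of_mem_zpowers ha)
        have hak : sz a = k := by
          rcases h.sizes a ha1 with e' | e' | e'
          · exact absurd (e' ▸ h3) h.not_m_dvd_k
          · exact absurd (e' ▸ h3) h.not_M_dvd_k
          · exact e'
        have hbv : b ∈ cen v :=
          (eq_of_le_of_index (cen_le_of_mem_zpowers ha) (hv.sz_eq.trans hak.symm)).symm ▸ hb.2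
        exact hfree p hp (dvd_card_of_isPPow hp (Subgroup.zpowers_le.2 hbv hb') hb'p hb'1)
          (dvd_card_of_isPPow hp (Subgroup.zpowers_le.2 hb.1 hb') hb'p hb'1)
      infer_instance
    have hcov : (Set.univ : Set G) ⊆ insert 1 (conjSet (Zc v) ∪ conjSet C) := by
      intro g _
      by_cases hg : g = 1
      · exact Or.inl hg
      right
      by_cases hgk : sz g = k
      · obtain ⟨c, hc⟩ := hv.conj g hgk
        exact Or.inl ⟨hg, c, mem_Zc_of_cen_eq hc⟩
      have hsg : ¬ s ∣ sz g := by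
        rcases h.sizes g hg with e | e | e
        · exact e ▸ hsm
        · exact e ▸ hsM
        · exact absurd e hgk
      obtain ⟨S', hS'⟩ := exists_sylow_le hsg
      obtain ⟨c, hc⟩ := MulAction.exists_smul_eq G S' S
      refine Or.inr ⟨hg, c, Subgroup.mem_centralizer_iff.2 fun y hy => ?_⟩
      rw [SetLike.mem_coe, ← hc] at hy
      obtain ⟨y', hy', rfl⟩ := hy
      have e := mem_cen.1 (hS' hy')
      show (MulAut.conj c) y' * (MulAut.conj c) g = (MulAut.conj c) g * (MulAut.conj c) y'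
      rw [← map_mul, ← map_mul, e]
    have hle := Set.ncard_le_ncard hcov (Set.toFinite _)
    rw [Set.ncard_univ] at hle
    have hi := Set.ncard_insert_le (1 : G) (conjSet (Zc v) ∪ conjSet C)
    have hu := Set.ncard_union_le (conjSet (Zc v)) (conjSet C)
    omega
  push Not at hbad
  have hcomm : ∀ p : ℕ, p.Prime → p ∣ k → ¬ p ∣ M → ¬ p ∣ Nat.card (commutator G) := by
    intro p hp hpk hpM
    haveI := Fact.mk hp
    obtain ⟨P⟩ := (inferInstance : Nonempty (Sylow p G))
    exact not_dvd_commutator P (hbad p inferInstance P hpk hpM)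
  by_cases htwo : ∃ p₁ p₂ : ℕ, p₁.Prime ∧ p₂.Prime ∧ p₁ ≠ p₂ ∧ p₁ ∣ k ∧ p₂ ∣ k ∧ p₁ ∣ M ∧ p₂ ∣ M
  · obtain ⟨p₁, p₂, h₁, h₂, hne, hk₁, hk₂, hM₁, hM₂⟩ := htwo
    obtain ⟨x, hxm, hnil⟩ := h.inside hk h₁ h₂ hne hk₁ hk₂ hM₁ hM₂
    refine hns (solvable_of_cover_top hnil hv.nilp fun p hp hd => ?_)
    rcases hGk p hp hd with h' | h'
    · exact Or.inr h'
    · exact Or.inl (show ¬ p ∣ sz x from
        hxm ▸ fun hd' => h.not_dvd_k_of_dvd_m hp hd' h')
  · by_cases hone : ∃ q : ℕ, q.Prime ∧ q ∣ k ∧ q ∣ M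
    · obtain ⟨q, hq, hqk, hqM⟩ := hone
      haveI := Fact.mk hq
      obtain ⟨Q⟩ := (inferInstance : Nonempty (Sylow q G))
      refine hns (solvable_of_commutator (solvable_of_cover _ hv.nilp Q.isPGroup'.isNilpotent
        fun p hp hd => ?_))
      rcases hGk p hp (hd.trans (Subgroup.card_subgroup_dvd_card _)) with h' | h'
      · exact Or.inl h'
      · by_cases hpM : p ∣ M
        · obtain rfl : p = q := by
            by_contra hne
            exact htwo ⟨p, q, hp, hq, hne, h', hqk, hpM, hqM⟩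
          exact Or.inr Q.not_dvd_index
        · exact absurd hd (hcomm p hp h' hpM)
    · refine hns (solvable_of_commutator (solvable_of_cover _ hv.nilp hv.nilp fun p hp hd => ?_))
      rcases hGk p hp (hd.trans (Subgroup.card_subgroup_dvd_card _)) with h' | h'
      · exact Or.inl h'
      · exact absurd hd (hcomm p hp h' fun hpM => hone ⟨p, hp, h', hpM⟩)

end Three

/-- A centreless group with at most three non-trivial class sizes. -/
theorem main (hZ : Subgroup.center G = ⊥) (h3 : {n : ℕ | 1 < n ∧ ∃ x : G, sz x = n}.ncard ≤ 3) :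
    Group.IsSolvable G ∨ ∃ f : ℕ, 0 < f ∧ Nonempty
      (G ≃* Matrix.ProjectiveSpecialLinearGroup (Fin 2) (GaloisField 2 f)) := by
  by_cases hns : Group.IsSolvable G
  · exact Or.inl hns
  by_cases hanti : Anti G
  · obtain ⟨f, hf, e⟩ := hanti.main h3 hZ hns
    exact Or.inr ⟨f, lt_of_lt_of_le two_pos hf, e⟩
  left
  obtain ⟨a, b, ha, hb, hd, hne⟩ : ∃ a b : G, a ≠ 1 ∧ b ≠ 1 ∧ sz b ∣ sz a ∧ sz b ≠ sz a := by
    simpa [Anti] using hanti
  obtain ⟨r, hr, hrm⟩ := Nat.exists_prime_and_dvd (one_lt_sz hZ hb).ne'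
  have hrG : r ∣ Nat.card G := hrm.trans (Subgroup.index_dvd_card _)
  haveI := Fact.mk hr
  obtain ⟨R⟩ := (inferInstance : Nonempty (Sylow r G))
  obtain ⟨c, hc1, -, -, -, hcn⟩ := exists_zp R hrG
  have hmc : sz b ≠ sz c := fun e => hcn (e ▸ hrm)
  have hMc : sz a ≠ sz c := fun e => hcn (e ▸ hrm.trans hd)
  have hfin : {n : ℕ | 1 < n ∧ ∃ x : G, sz x = n}.Finite :=
    (Set.finite_range (fun x : G => sz x)).subset fun n ⟨_, x, hx⟩ => ⟨x, hx⟩
  have hS : ({sz b, sz a, sz c} : Set ℕ) = {n : ℕ | 1 < n ∧ ∃ x : G, sz x = n} := by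
    refine Set.eq_of_subset_of_ncard_le ?_ (h3.trans (le_of_eq ?_)) hfin
    · rintro n (rfl | rfl | rfl)
      · exact ⟨one_lt_sz hZ hb, b, rfl⟩
      · exact ⟨one_lt_sz hZ ha, a, rfl⟩
      · exact ⟨one_lt_sz hZ hc1, c, rfl⟩
    · rw [Set.ncard_insert_of_notMem (by simp [hne, hmc]), Set.ncard_pair hMc]
  have hsizes : ∀ g : G, g ≠ 1 → sz g = sz b ∨ sz g = sz a ∨ sz g = sz c := fun g hg => by
    have : sz g ∈ ({sz b, sz a, sz c} : Set ℕ) := hS ▸ ⟨one_lt_sz hZ hg, g, rfl⟩
    simpa using this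
  have h : Three G (sz b) (sz a) (sz c) :=
    { center := hZ
      one_lt_m := one_lt_sz hZ hb
      one_lt_k := one_lt_sz hZ hc1
      dvd := hd
      lt := lt_of_le_of_ne
        (Nat.le_of_dvd (Nat.pos_of_ne_zero Subgroup.index_ne_zero_of_finite) hd) hne
      cop := Nat.coprime_of_dvd' fun p hp hpm hpk => by
        exfalso
        haveI := Fact.mk hp
        obtain ⟨P⟩ := (inferInstance : Nonempty (Sylow p G))
        obtain ⟨z, hz1, -, -, -, hzn⟩ := exists_zp P (hpm.trans (Subgroup.index_dvd_card _))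
        rcases hsizes z hz1 with e | e | e
        · exact hzn (e ▸ hpm)
        · exact hzn (e ▸ hpm.trans hd)
        · exact hzn (e ▸ hpk)
      sizes := hsizes
      ex_m := ⟨b, rfl⟩
      ex_M := ⟨a, rfl⟩
      ex_k := ⟨c, rfl⟩ }
  by_cases hk : sz c ∣ sz a
  · by_cases hne' : sz a = sz b * sz c
    · have hQ : ClassQuad.Quad G (sz b) (sz c) :=
        { one_lt_n := h.one_lt_m
          one_lt_m := h.one_lt_k
          cop := h.cop
          sizes := fun g => by
            by_cases hg : g = 1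
            · exact Or.inl (sz_eq_one_iff.2 (hg ▸ one_mem _))
            rcases hsizes g hg with e | e | e
            · exact Or.inr (Or.inl e)
            · exact Or.inr (Or.inr (Or.inr (e.trans hne')))
            · exact Or.inr (Or.inr (Or.inl e))
          ex_n := h.ex_m
          ex_m := h.ex_k
          ex_nm := ⟨a, hne'⟩ }
      haveI := hQ.nilpotent.1
      infer_instance
    · exact h.solvable_of_dvd hk hne'
  · exact h.solvable_of_not_dvd hk

end Cfsg.Agent.ThreeClassSizes
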