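import Cfsg.Agent.Lib.ThreeClassSizes.Basic

/-!
# Two primes cannot both divide the class size of primary elements
-/

set_option autoImplicit false
set_option linter.style.haveILetI false
set_option linter.unusedSectionVars false

namespace Cfsg.Agent.ThreeClassSizes

open Cfsg.Agent.ClassTriple

universe u

variable {G : Type u} [Group G] [Finite G]

/-- The orbit inequality: the `q`-part of the size is smaller than the `t`-part. -/
theorem part_lt {q t j : ℕ} [hq : Fact q.Prime] [ht : Fact t.Prime] (hne : q ≠ t) (hqj : q ∣ j)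
    (hj : ∀ p : ℕ, p.Prime → p ∣ j → p = q ∨ p = t) (hex : ∃ g : G, sz g = j)
    (hQ : ∀ u : G, IsPPow q u → u ∉ Subgroup.center G → sz u = j)
    (hT : ∀ u : G, IsPPow t u → u ∉ Subgroup.center G → sz u = j)
    (hpart : ∀ u : G, IsPPow q u → u ∉ Subgroup.center G →
      ∃ v : G, IsPPow t v ∧ v ∉ Subgroup.center G ∧ cen v = cen u) :
    q ^ j.factorization q < t ^ j.factorization t := by
  have hj0 : j ≠ 0 := by
    obtain ⟨g, rfl⟩ := hex; exact Subgroup.index_ne_zero_of_finite
  obtain ⟨P⟩ := (inferInstance : Nonempty (Sylow q G))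
  have hPc : ¬ (P : Subgroup G) ≤ Subgroup.center G := by
    intro h
    obtain ⟨g, hg⟩ := hex
    exact not_dvd_sz P (h.trans (center_le_cen g)) (hg ▸ hqj)
  obtain ⟨u, huP, hunc, -, hcomm⟩ :=
    exists_special hq.out P.isPGroup' le_rfl Subgroup.le_normalizer hPc
  have huq : IsPPow q u := IsPPow.of_mem P.isPGroup' huP
  obtain ⟨v, hvt, hvnc, hvU⟩ := hpart u huq hunc
  set U := cen u with hUdef
  have hUsz : U.index = j := hQ u huq hunc
  set N := Subgroup.normalizer (U : Set G) with hNdef
  have hPN : (P : Subgroup G) ≤ N := fun y hy => mem_normalizer_cen (hcomm y hy)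
  let Y : Subgroup G :=
    { carrier := {e | e ∈ U ∧ U ≤ cen e ∧ IsPPow t e}
      one_mem' := ⟨one_mem _, fun y _ => mem_cen.2 (by simp), ⟨0, by simp⟩⟩
      mul_mem' := by
        rintro a b ⟨ha, ha', k, hk⟩ ⟨hb, hb', l, hl⟩
        refine ⟨mul_mem ha hb, fun y hy => mem_cen.2 (Commute.mul_left
          (show Commute a y from mem_cen.1 (ha' hy)) (show Commute b y from mem_cen.1 (hb' hy))),
          k + l, ?_⟩
        rw [(show Commute a b from mem_cen.1 (ha' hb)).mul_pow, pow_add, pow_mul, hk, one_pow,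
          one_mul, mul_comm, pow_mul, hl, one_pow]
      inv_mem' := by
        rintro a ⟨ha, ha', k, hk⟩
        exact ⟨inv_mem ha, fun y hy => mem_cen.2
          (show Commute a y from mem_cen.1 (ha' hy)).inv_left, k, by rw [inv_pow, hk, inv_one]⟩ }
  have hvY : v ∈ Y := ⟨hvU ▸ mem_cen_self v, hvU.ge, hvt⟩
  have hYN : N ≤ Subgroup.normalizer (Y : Set G) := by
    have key : ∀ g ∈ N, ∀ e ∈ Y, g * e * g⁻¹ ∈ Y := by
      rintro g hg e ⟨he, he', het⟩
      refine ⟨(Subgroup.mem_normalizer_iff.1 hg e).1 he, fun y hy => ?_, het.conj g⟩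
      rw [mem_cen_conj]
      refine he' ?_
      have := (Subgroup.mem_normalizer_iff.1 (Subgroup.inv_mem _ hg) y).1 hy
      simpa using this
    intro g hg
    refine Subgroup.mem_normalizer_iff.2 fun e => ⟨key g hg e, fun h => ?_⟩
    have := key g⁻¹ (Subgroup.inv_mem _ hg) _ h
    simpa [mul_assoc] using this
  have hcenY : ∀ e ∈ Y, e ∉ Subgroup.center G → cen e = U := fun e he hnc =>
    (eq_of_le_of_index he.2.1 (hUsz.trans (hT e he.2.2 hnc).symm)).symm
  -- the orbit of `v` modulo the centre
  set Z := (Subgroup.center G).subgroupOf Y with hZ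
  have hlt : U.relIndex (P : Subgroup G) < Z.index := by
    have hmem : ∀ y : (P : Subgroup G), (y : G) * v * (y : G)⁻¹ ∈ Y := fun y =>
      (Subgroup.mem_normalizer_iff.1 (hYN (hPN y.2)) v).1 hvY
    let f : (P : Subgroup G) ⧸ U.subgroupOf (P : Subgroup G) → Y ⧸ Z := fun c =>
      QuotientGroup.mk' Z ⟨_, hmem (Quotient.out c)⟩
    have hinj : Function.Injective f := by
      intro c d hcd
      rw [← Quotient.out_eq' c, ← Quotient.out_eq' d]
      refine QuotientGroup.eq.2 ?_
      set y := Quotient.out c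
      set w := Quotient.out d
      have h1 : ((y : G) * v * (y : G)⁻¹)⁻¹ * ((w : G) * v * (w : G)⁻¹) ∈ Subgroup.center G :=
        Subgroup.mem_subgroupOf.1 ((QuotientGroup.eq).1 hcd)
      rw [Subgroup.mem_subgroupOf, ← hvU, Subgroup.coe_mul, Subgroup.coe_inv]
      refine mem_cen_of_coprime ?_ ((IsPPow.of_mem P.isPGroup'
        ((P : Subgroup G).mul_mem ((P : Subgroup G).inv_mem y.2) w.2)).coprime hq.out ht.out hne hvt)
      have h2 := (inferInstance : (Subgroup.center G).Normal).conj_mem _ h1 (v * (y : G)⁻¹)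
      convert h2 using 1
      group
    have hone : ∀ c, f c ≠ 1 := by
      intro c h
      have h1 := Subgroup.mem_subgroupOf.1 ((QuotientGroup.eq_one_iff _).1 h)
      have h2 := (inferInstance : (Subgroup.center G).Normal).conj_mem _ h1
        ((Quotient.out c : (P : Subgroup G)) : G)⁻¹
      refine hvnc ?_
      convert h2 using 1
      group
    rw [Subgroup.relIndex, Subgroup.index_eq_card, Subgroup.index_eq_card]
    haveI := Fintype.ofFinite ((P : Subgroup G) ⧸ U.subgroupOf (P : Subgroup G))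
    haveI := Fintype.ofFinite (Y ⧸ Z)
    rw [Nat.card_eq_fintype_card, Nat.card_eq_fintype_card]
    refine Fintype.card_lt_of_injective_of_notMem f hinj (b := 1) ?_
    rintro ⟨c, hc⟩
    exact hone c hc
  have hPU : q ^ j.factorization q ≤ U.relIndex (P : Subgroup G) := by
    have h1 : Nat.card (U ⊓ (P : Subgroup G) : Subgroup G) * U.relIndex (P : Subgroup G) =
        Nat.card (P : Subgroup G) := by
      rw [← Subgroup.inf_relIndex_right, ← Subgroup.relIndex_bot_left,
        Subgroup.relIndex_mul_relIndex _ _ _ bot_le inf_le_right, Subgroup.relIndex_bot_left]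
    have h2 := fac_le_of_le q (inf_le_left : U ⊓ (P : Subgroup G) ≤ U)
    have h3 := fac_index q U
    rw [hUsz] at h3
    rw [P.card_eq_multiplicity, ← h3, pow_add,
      card_eq_pow_fac hq.out (P.isPGroup'.to_le inf_le_right)] at h1
    refine Nat.le_of_mul_le_mul_left ?_
      (pow_pos hq.out.pos ((Nat.card (U ⊓ (P : Subgroup G) : Subgroup G)).factorization q))
    rw [h1]
    exact Nat.mul_le_mul_right _ (Nat.pow_le_pow_right hq.out.pos h2)
  -- the bound
  obtain ⟨y, hyP, hyU⟩ : ∃ y ∈ (P : Subgroup G), y ∉ U := by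
    by_contra hc
    push Not at hc
    rw [Subgroup.relIndex_eq_one.2 hc] at hPU
    have h1 : 1 < q ^ j.factorization q := Nat.one_lt_pow
      (hq.out.factorization_pos_of_dvd hj0 hqj).ne' hq.out.one_lt
    omega
  have hync : y ∉ Subgroup.center G := fun h => hyU (center_le_cen u h)
  have hysz : (cen y).index = j := hQ y (IsPPow.of_mem P.isPGroup' hyP) hync
  set K := cen y ⊓ N with hK
  obtain ⟨S⟩ := (inferInstance : Nonempty (Sylow t K))
  set R := (S : Subgroup K).map K.subtype with hR
  have hRK : R ≤ K := Subgroup.map_subtype_le _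
  have hRt : IsPGroup t R := S.isPGroup'.map _
  have hRcard : Nat.card R = t ^ (Nat.card K).factorization t := by
    rw [hR, Subgroup.card_map_of_injective K.subtype_injective, S.card_eq_multiplicity]
  have hYt : IsPGroup t Y := fun e => by
    obtain ⟨k, hk⟩ := e.2.2.2
    exact ⟨k, Subtype.ext (by rw [Subgroup.coe_pow, hk]; rfl)⟩
  have hsup : IsPGroup t (R ⊔ Y : Subgroup G) :=
    IsPGroup.to_sup_of_normal_right' hRt hYt ((hRK.trans inf_le_right).trans hYN)
  have hYleN : Y ≤ N := fun e he => Subgroup.le_normalizer he.1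
  have hsupN := fac_le_of_le t (sup_le (hRK.trans inf_le_right) hYleN : R ⊔ Y ≤ N)
  have hZR : Z.index ≤ R.relIndex (R ⊔ Y) := by
    refine le_trans (Nat.le_of_dvd (Nat.pos_of_ne_zero (Subgroup.index_ne_zero_of_finite)) ?_)
      (Subgroup.relIndex_le_of_le_right le_sup_right Subgroup.index_ne_zero_of_finite)
    show (Subgroup.center G).relIndex Y ∣ R.relIndex Y
    rw [← Subgroup.inf_relIndex_right R Y]
    refine Subgroup.relIndex_dvd_of_le_left Y fun e he => ?_
    by_contra hnc
    exact hyU ((hcenY e he.2 hnc) ▸ mem_cen_symm (hRK he.1).1)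
  have hcardS : Nat.card R * R.relIndex (R ⊔ Y) = Nat.card (R ⊔ Y : Subgroup G) := by
    rw [← Subgroup.relIndex_bot_left, Subgroup.relIndex_mul_relIndex _ _ _ bot_le le_sup_left,
      Subgroup.relIndex_bot_left]
  have hmain : t ^ (Nat.card K).factorization t * Z.index ≤
      t ^ (Nat.card N).factorization t := by
    refine (Nat.mul_le_mul_left _ hZR).trans ?_
    rw [← hRcard, hcardS, card_eq_pow_fac ht.out hsup]
    exact Nat.pow_le_pow_right ht.out.pos hsupN
  have hdN : N.index ∣ j := hUsz ▸ Subgroup.index_dvd_of_le (Subgroup.le_normalizer (H := U))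
  have hd0 : N.index ≠ 0 := Subgroup.index_ne_zero_of_finite
  have hd : N.index = t ^ N.index.factorization t := by
    have h := Nat.eq_prime_pow_of_unique_prime_dvd hd0 (p := t) fun {p} hp hpd => by
      rcases hj p hp (hpd.trans hdN) with rfl | rfl
      · exact absurd (hpd.trans (Subgroup.index_dvd_of_le hPN)) P.not_dvd_index
      · rfl
    obtain ⟨k, hk⟩ : ∃ k, N.index = t ^ k := ⟨_, h⟩
    rw [hk, ht.out.factorization_pow, Finsupp.single_eq_same]
  have hKidx : K.relIndex (cen y) * j = K.index := by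
    rw [← hysz, Subgroup.relIndex_mul_index inf_le_left]
  have hi0 : K.relIndex (cen y) ≠ 0 := Subgroup.index_ne_zero_of_finite
  have hile : K.relIndex (cen y) ≤ N.index := by
    refine Nat.le_of_mul_le_mul_right ?_ (Nat.pos_of_ne_zero hj0)
    rw [hKidx, mul_comm N.index, ← hysz]
    exact Subgroup.index_inf_le
  have hfi : (K.relIndex (cen y)).factorization t ≤ N.index.factorization t := by
    refine (Nat.pow_le_pow_iff_right ht.out.one_lt).1 ?_
    rw [← hd]
    exact (Nat.le_of_dvd (Nat.pos_of_ne_zero hi0) (Nat.ordProj_dvd _ t)).trans hile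
  have hfK := fac_index t K
  rw [← hKidx, Nat.factorization_mul hi0 hj0, Finsupp.add_apply] at hfK
  have hfN := fac_index t N
  calc q ^ j.factorization q ≤ U.relIndex (P : Subgroup G) := hPU
    _ < Z.index := hlt
    _ ≤ t ^ j.factorization t := by
      refine Nat.le_of_mul_le_mul_left (hmain.trans ?_)
        (pow_pos ht.out.pos ((Nat.card K).factorization t))
      rw [← pow_add]
      exact Nat.pow_le_pow_right ht.out.pos (by omega)

/-- Two primes cannot both divide the class size of the primary elements. -/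
theorem two_prime_false {q t j : ℕ} (hq : q.Prime) (ht : t.Prime) (hne : q ≠ t) (hqj : q ∣ j)
    (htj : t ∣ j) (hj : ∀ p : ℕ, p.Prime → p ∣ j → p = q ∨ p = t) (hex : ∃ g : G, sz g = j)
    (hQ : ∀ u : G, IsPPow q u → u ∉ Subgroup.center G → sz u = j)
    (hT : ∀ u : G, IsPPow t u → u ∉ Subgroup.center G → sz u = j)
    (hQT : ∀ u : G, IsPPow q u → u ∉ Subgroup.center G →
      ∃ v : G, IsPPow t v ∧ v ∉ Subgroup.center G ∧ cen v = cen u)
    (hTQ : ∀ u : G, IsPPow t u → u ∉ Subgroup.center G →
      ∃ v : G, IsPPow q v ∧ v ∉ Subgroup.center G ∧ cen v = cen u) : False := by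
  haveI := Fact.mk hq
  haveI := Fact.mk ht
  have h1 := part_lt hne hqj hj hex hQ hT hQT
  have h2 := part_lt (Ne.symm hne) htj (fun p hp hd => (hj p hp hd).symm) hex hT hQ hTQ
  omega

end Cfsg.Agent.ThreeClassSizes
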