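import Cfsg.Agent.Lib.ThreeClassSizes.ChainA
import Cfsg.Agent.Lib.ThreeClassSizes.TwoPrime
import Cfsg.Agent.Lib.ClassSizeTriple.Split
import Cfsg.Agent.Lib.RegTwoSizes.Final
import Cfsg.Agent.S4033

/-!
# Inside the centraliser of an element of size `m`, when `k ∤ M`
-/

set_option autoImplicit false
set_option linter.style.haveILetI false
set_option linter.unusedSectionVars false

namespace Cfsg.Agent.ThreeClassSizes

open Cfsg.Agent.ClassTriple

universe u

variable {G : Type u} [Group G] [Finite G] {m M k j : ℕ}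

/-- Class sizes inside a subgroup. -/
lemma sz_subgroup (H : Subgroup G) (y : H) : sz y = (cen (y : G)).relIndex H := by
  show (Subgroup.centralizer ({y} : Set H)).index = _
  rw [ClassTriple.centralizer_subgroupOf]
  rfl

lemma relIndex_mul (H K : Subgroup G) : K.relIndex H * H.index = (H ⊓ K).index := by
  rw [← Subgroup.inf_relIndex_left, Subgroup.relIndex_mul_index inf_le_left]

namespace Three

variable (h : Three G m M k)
include h

/-- An element of size `k` only commutes coprimely with elements of size `k`. -/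
lemma coprime_k (hk : ¬ k ∣ M) {g w : G} (hw1 : w ≠ 1) (hgk : sz g = k) (hc : w ∈ cen g)
    (hco : (orderOf g).Coprime (orderOf w)) : cen w = cen g := by
  have e := cen_mul_eq (mem_cen.1 hc) hco
  have hd : k ∣ sz (g * w) := hgk ▸ Subgroup.index_dvd_of_le (e.le.trans inf_le_left)
  have hne : g * w ≠ 1 := fun h1 => by
    rw [h1, sz_eq_one_iff.2 (one_mem _)] at hd
    exact absurd (Nat.le_of_dvd one_pos hd) (not_le.2 h.one_lt_k)
  rcases h.sizes _ hne with e' | e' | e'
  · exact absurd (e' ▸ hd) h.not_k_dvd_m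
  · exact absurd (e' ▸ hd) hk
  · have h1 : cen (g * w) = cen g := eq_of_le_of_index (e.le.trans inf_le_left) (e'.trans hgk.symm)
    have h2 : cen g ≤ cen w := h1 ▸ e.le.trans inf_le_right
    have h3 : sz w ∣ k := hgk ▸ sz_dvd h2
    rcases h.sizes w hw1 with e'' | e'' | e''
    · exact absurd (e'' ▸ h3) h.not_m_dvd_k
    · exact absurd (e'' ▸ h3) h.not_M_dvd_k
    · exact (eq_of_le_of_index h2 (hgk.trans e''.symm)).symm

lemma coprime_sz (hj : M = m * j) {x y : G} (hx : sz x = m) (hy : y ∈ cen x)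
    (hco : (orderOf x).Coprime (orderOf y)) :
    ((cen y).relIndex (cen x) = 1 ∧ sz (x * y) = m) ∨
      ((cen y).relIndex (cen x) = j ∧ sz (x * y) = M) := by
  have e := cen_mul_eq (mem_cen.1 hy) hco
  have hs : (cen y).relIndex (cen x) * m = sz (x * y) := by
    show _ = (cen (x * y)).index
    rw [e, ← hx]
    exact relIndex_mul _ _
  have hne : x * y ≠ 1 := fun h1 => by
    have hd : m ∣ sz (x * y) := ⟨_, hs.symm.trans (mul_comm _ _)⟩
    rw [h1, sz_eq_one_iff.2 (one_mem _)] at hd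
    exact absurd (Nat.le_of_dvd one_pos hd) (not_le.2 h.one_lt_m)
  rcases h.sizes _ hne with e' | e' | e'
  · exact Or.inl ⟨Nat.eq_of_mul_eq_mul_right h.m_pos ((hs.trans e').trans (one_mul m).symm), e'⟩
  · exact Or.inr ⟨Nat.eq_of_mul_eq_mul_right h.m_pos
      ((hs.trans e').trans (hj.trans (mul_comm m j))), e'⟩
  · exact absurd ⟨_, (e'.symm.trans hs.symm).trans (mul_comm _ _)⟩ h.not_m_dvd_k

lemma one_lt_j (hj : M = m * j) : 1 < j := by
  have hlt := h.lt
  rw [hj] at hlt
  rcases j with _ | _ | j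
  · simp at hlt
  · simp at hlt
  · omega

/-- An element of size `m` and a central element of a Sylow subgroup of its centraliser. -/
lemma exists_same {q t : ℕ} (hq : q.Prime) [Fact t.Prime] (hqt : q ≠ t) (htk : t ∣ k) (htM : t ∣ M)
    {x : G} (hx : IsPPow q x) (hxm : sz x = m) :
    ∃ z : G, IsPPow t z ∧ z ≠ 1 ∧ sz z = m ∧ cen z = cen x ∧
      ∃ T : Sylow t G, (T : Subgroup G) ≤ cen x := by
  have ht : t.Prime := Fact.out
  have htm : ¬ t ∣ m := fun hd => h.not_dvd_k_of_dvd_m ht hd htk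
  obtain ⟨T, hT⟩ := exists_sylow_le (H := cen x) (show ¬ t ∣ (cen x).index from
    fun hd => htm (hxm ▸ hd))
  obtain ⟨g, hg⟩ := h.ex_M
  obtain ⟨z, hz1, hzT, hzt, hTz, hzn⟩ := exists_zp T (htM.trans (h.dvd_card hg))
  have hzm : sz z = m := by
    rcases h.sizes z hz1 with e | e | e
    · exact e
    · exact absurd (e ▸ htM) hzn
    · exact absurd (e ▸ htk) hzn
  have e := cen_mul_eq (mem_cen.1 (hT hzT)) (hx.coprime hq ht hqt hzt)
  have hTxz : (T : Subgroup G) ≤ cen (x * z) := e ▸ le_inf hT hTz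
  have hne : x * z ≠ 1 := fun h1 => by
    have h2 : sz x ∣ sz (x * z) := Subgroup.index_dvd_of_le (e.le.trans inf_le_left)
    rw [h1, sz_eq_one_iff.2 (one_mem _), hxm] at h2
    exact absurd (Nat.le_of_dvd one_pos h2) (not_le.2 h.one_lt_m)
  have hsz : sz (x * z) = m := by
    rcases h.sizes _ hne with e' | e' | e'
    · exact e'
    · exact absurd (e' ▸ htM) (not_dvd_sz T hTxz)
    · exact absurd (e' ▸ htk) (not_dvd_sz T hTxz)
  have h1 : cen (x * z) = cen x := eq_of_le_of_index (e.le.trans inf_le_left) (hsz.trans hxm.symm)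
  have h2 : cen (x * z) = cen z :=
    eq_of_le_of_index (e.le.trans inf_le_right) (hsz.trans hzm.symm)
  exact ⟨z, hzt, hz1, hzm, h2.symm.trans h1, T, hT⟩

/-- Primary elements inside have a partner for the other prime. -/
lemma exists_partner (hk : ¬ k ∣ M) (hj : M = m * j) {q t : ℕ} (hq : q.Prime) (ht : t.Prime)
    (hqt : q ≠ t) (htk : t ∣ k) (htj : t ∣ j) {x z : G}
    (hzt : IsPPow t z) (hz1 : z ≠ 1) (hzm : sz z = m) (hcz : cen z = cen x)
    (hT : ∀ v : cen x, IsPPow t v → v ∉ Subgroup.center (cen x) → sz v = j)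
    (hex : ∃ g : cen x, sz g = j)
    (u : cen x) (hu : IsPPow q u) (hunc : u ∉ Subgroup.center (cen x)) :
    ∃ v : cen x, IsPPow t v ∧ v ∉ Subgroup.center (cen x) ∧ cen v = cen u := by
  haveI := Fact.mk hq
  haveI := Fact.mk ht
  have hug : IsPPow q (u : G) := hu.imp fun i hi => by
    rw [← Subgroup.coe_pow, hi]; rfl
  have hu1 : (u : G) ≠ 1 := fun e => hunc ((Subtype.ext e : u = 1) ▸ one_mem _)
  have huz : (u : G) ∈ cen z := hcz.symm ▸ u.2
  have hco := hzt.coprime ht hq (Ne.symm hqt) hug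
  obtain ⟨hrel, hzu⟩ : (cen (u : G)).relIndex (cen x) = j ∧ sz (z * u) = M := by
    rcases h.coprime_sz hj hzm huz hco with ⟨e, -⟩ | ⟨e, e'⟩
    · exfalso
      refine hunc (sz_eq_one_iff.1 ?_)
      rw [sz_subgroup]
      exact (congrArg ((cen (u : G)).relIndex ·) hcz).symm.trans e
    · exact ⟨(congrArg ((cen (u : G)).relIndex ·) hcz).symm.trans e, e'⟩
  have hszu : sz u = j := by rw [sz_subgroup, hrel]
  have huk : sz (u : G) ≠ k := fun e => by
    have h1 := h.coprime_k hk hz1 e (mem_cen_symm huz) hco.symm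
    have h2 : sz z = sz (u : G) := congrArg Subgroup.index h1
    exact h.not_m_dvd_k (by rw [← e, ← h2, hzm])
  rcases h.sizes _ hu1 with e | e | e
  · -- the size is `m`
    obtain ⟨v, hvt, -, -, hvu, -⟩ :=
      h.exists_same hq hqt htk (hj ▸ dvd_mul_of_dvd_right htj m) hug e
    have hvx : v ∈ cen x := by
      rw [← hcz]
      exact mem_cen_symm (hvu.symm ▸ mem_cen_symm huz)
    have hcv : cen (⟨v, hvx⟩ : cen x) = cen u := by
      show Subgroup.centralizer _ = Subgroup.centralizer _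
      rw [ClassTriple.centralizer_subgroupOf, ClassTriple.centralizer_subgroupOf]
      show (cen v).subgroupOf _ = _
      rw [hvu]
    refine ⟨⟨v, hvx⟩, hvt.imp fun i hi => Subtype.ext (by rw [Subgroup.coe_pow, hi]; rfl), ?_, hcv⟩
    intro hc
    have h1 := sz_eq_one_iff.2 hc
    rw [show sz (⟨v, hvx⟩ : cen x) = sz u from congrArg Subgroup.index hcv, hszu] at h1
    exact (h.one_lt_j hj).ne' h1
  · -- the size is `M`: the centraliser is minimal
    have ez := cen_mul_eq (mem_cen.1 huz) hco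
    have h1 : cen (u : G) ≤ cen x := by
      rw [← eq_of_le_of_index (ez.le.trans inf_le_right) (hzu.trans e.symm), ez]
      exact inf_le_left.trans hcz.le
    obtain ⟨w, hw⟩ : ∃ w : cen x, IsPPow t w ∧ w ∉ Subgroup.center (cen x) := by
      by_contra hc
      push Not at hc
      obtain ⟨g, hg⟩ := hex
      obtain ⟨S⟩ := (inferInstance : Nonempty (Sylow t (cen x)))
      exact not_dvd_sz S (fun y hy => center_le_cen g (hc y (IsPPow.of_mem S.isPGroup' hy)))
        (hg ▸ htj)
    have hlt := fac_center_lt ht (center_le_cen w) (mem_cen_self w) hw.1 hw.2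
    rw [card_cen_eq ((hT w hw.1 hw.2).trans hszu.symm)] at hlt
    obtain ⟨v, hvu, hvt, hvnc⟩ := exists_ppow_not_center ht hlt
    refine ⟨v, hvt, hvnc, (eq_of_le_of_index ?_ (hszu.trans (hT v hvt hvnc).symm)).symm⟩
    have hvg : IsPPow t (v : G) := hvt.imp fun i hi => by rw [← Subgroup.coe_pow, hi]; rfl
    have hvu' : (v : G) ∈ cen (u : G) := mem_cen.2 (congrArg Subtype.val (mem_cen.1 hvu))
    have e2 := cen_mul_eq (mem_cen.1 hvu') (hug.coprime hq ht hqt hvg)
    have hd : M ∣ sz ((u : G) * v) := e ▸ Subgroup.index_dvd_of_le (e2.le.trans inf_le_left)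
    have hne : (u : G) * v ≠ 1 := fun h' => by
      rw [h', sz_eq_one_iff.2 (one_mem _)] at hd
      have := Nat.le_of_dvd one_pos hd
      have := h.one_lt_m
      have := h.lt
      omega
    have hM : sz ((u : G) * v) = M := by
      rcases h.sizes _ hne with e' | e' | e'
      · exact absurd (e' ▸ hd) h.not_M_dvd_m
      · exact e'
      · exact absurd (e' ▸ hd) h.not_M_dvd_k
    have h2 : cen (u : G) ≤ cen (v : G) := by
      rw [← eq_of_le_of_index (e2.le.trans inf_le_left) (hM.trans e.symm), e2]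
      exact inf_le_right
    show Subgroup.centralizer _ ≤ Subgroup.centralizer _
    rw [ClassTriple.centralizer_subgroupOf, ClassTriple.centralizer_subgroupOf]
    exact fun y hy => h2 hy
  · exact absurd e huk

/-- At most one prime of `k` divides `M`, unless the group is a product of two nilpotent ones. -/
theorem inside (hk : ¬ k ∣ M) {p₁ p₂ : ℕ} (h₁ : p₁.Prime) (h₂ : p₂.Prime) (hne : p₁ ≠ p₂)
    (hk₁ : p₁ ∣ k) (hk₂ : p₂ ∣ k) (hM₁ : p₁ ∣ M) (hM₂ : p₂ ∣ M) :
    ∃ x : G, sz x = m ∧ Group.IsNilpotent (cen x) := by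
  obtain ⟨j, hj⟩ := h.dvd
  obtain ⟨q, x, hq, hxq, hx1, hxm⟩ := h.primary_m
  haveI := Fact.mk hq
  refine ⟨x, hxm, ?_⟩
  have hpj : ∀ p : ℕ, p.Prime → p ∣ k → p ∣ M → p ∣ j := fun p hp hpk hpM =>
    ((Nat.Prime.dvd_mul hp).1 (hj ▸ hpM)).resolve_left fun hd =>
      h.not_dvd_k_of_dvd_m hp hd hpk
  have hreg : ∀ y : cen x, (orderOf y).Coprime q → sz y = 1 ∨ sz y = j := by
    intro y hy
    obtain ⟨i, hi⟩ := hxq.orderOf_eq hq
    rw [sz_subgroup]
    refine (h.coprime_sz hj hxm y.2 ?_).imp And.left And.left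
    rw [hi, Subgroup.orderOf_coe]
    exact (hy.pow_right i).symm
  by_cases hall : ∀ y : cen x, (orderOf y).Coprime q → y ∈ Subgroup.center (cen x)
  · have hidx : IsPGroup q (cen x ⧸ Subgroup.center (cen x)) := by
      refine IsPGroup.of_card (n := (Subgroup.center (cen x)).index.primeFactorsList.length) ?_
      rw [← Subgroup.index_eq_card]
      refine Nat.eq_prime_pow_of_unique_prime_dvd Subgroup.index_ne_zero_of_finite
        fun {p} hp hd => ?_
      by_contra hpq
      haveI := Fact.mk hp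
      obtain ⟨S⟩ := (inferInstance : Nonempty (Sylow p (cen x)))
      refine S.not_dvd_index (hd.trans (Subgroup.index_dvd_of_le fun y hy => hall y ?_))
      obtain ⟨i, hi⟩ := (IsPPow.of_mem S.isPGroup' hy).orderOf_eq hp
      rw [hi]
      exact ((Nat.coprime_primes hp hq).2 hpq).pow_left i
    exact Group.of_quotient_center_nilpotent hidx.isNilpotent
  exfalso
  push Not at hall
  obtain ⟨y, hy, hync⟩ := hall
  have hyj : sz y = j := (hreg y hy).resolve_left (mt sz_eq_one_iff.1 hync)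
  have h2 : Set.ncard (Set.range fun w' : {w : cen x // (orderOf w).Coprime q} =>
      (ConjClasses.mk (w' : cen x)).carrier.ncard) = 2 := by
    have : Set.range (fun w' : {w : cen x // (orderOf w).Coprime q} =>
        (ConjClasses.mk (w' : cen x)).carrier.ncard) = {1, j} := by
      ext n
      simp only [Set.mem_range, RegTwoSizes.ncard_carrier_eq]
      constructor
      · rintro ⟨⟨w, hw⟩, rfl⟩
        exact hreg w hw
      · rintro (rfl | rfl)
        · exact ⟨⟨1, by rw [orderOf_one]; exact Nat.coprime_one_left q⟩,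
            sz_eq_one_iff.2 (one_mem _)⟩
        · exact ⟨⟨y, hy⟩, hyj⟩
    rw [this, Set.ncard_pair (h.one_lt_j hj).ne]
  rcases S4033.result hq h2 with ⟨K, hKc, -, e, hKi⟩ |
      ⟨t, htf, P, Q, A, htq, hAc, hcard, hn, hinf, hsup⟩
  · -- the class size inside is a power of `q`
    have hj' : ∀ p : ℕ, p.Prime → p ∣ j → p = q := by
      intro p hp hd
      obtain ⟨r, a, hr, har, ha1, hay, hle⟩ :
          ∃ (r : ℕ) (a : cen x), r.Prime ∧ IsPPow r a ∧ a ∉ Subgroup.center (cen x) ∧
            a ∈ Subgroup.zpowers y ∧ cen y ≤ cen a := by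
        by_contra hc
        push Not at hc
        refine hync (mem_of_primary fun r hr a ha har => ?_)
        by_contra hac
        exact hc r a hr har hac ha (cen_le_of_mem_zpowers ha)
      have hrq : r ≠ q := by
        rintro rfl
        obtain ⟨i, hi⟩ := har.orderOf_eq hr
        have h1 : (orderOf a).Coprime r := hy.coprime_dvd_left (orderOf_dvd_of_mem_zpowers hay)
        rw [hi] at h1
        rcases i with _ | i
        · exact ha1 (orderOf_eq_one_iff.1 (by rw [hi, pow_zero]) ▸ one_mem _)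
        · exact hr.ne_one (Nat.eq_one_of_dvd_coprimes h1 (dvd_pow_self r i.succ_ne_zero) dvd_rfl)
      haveI := Fact.mk hr
      obtain ⟨c, hc⟩ := exists_conj_mem (H := K) (fun hd' => hrq ((Nat.prime_dvd_prime_iff_eq hr hq).1
        (hr.dvd_of_dvd_pow (hKi ▸ hd')))) har
      have haj : sz a = j := by
        refine (hreg a ?_).resolve_left (mt sz_eq_one_iff.1 ha1)
        exact hy.coprime_dvd_left (orderOf_dvd_of_mem_zpowers hay)
      have hKle : K ≤ cen (c * a * c⁻¹) := fun w hw => mem_cen.2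
        (congrArg Subtype.val (mul_comm' (⟨_, hc⟩ : K) ⟨w, hw⟩))
      have hd' : j ∣ K.index := haj ▸ sz_conj c a ▸ Subgroup.index_dvd_of_le hKle
      exact (Nat.prime_dvd_prime_iff_eq hp hq).1 (hp.dvd_of_dvd_pow (hKi ▸ hd.trans hd'))
    exact hne ((hj' p₁ h₁ (hpj p₁ h₁ hk₁ hM₁)).trans (hj' p₂ h₂ (hpj p₂ h₂ hk₂ hM₂)).symm)
  · have ht : t.Prime := htf.out
    haveI := htf
    have hj2 : ∀ p : ℕ, p.Prime → p ∣ j → p = q ∨ p = t := by
      intro p hp hd
      haveI := hn
      have h1 := SolvBasic.card_sup_mul_card_inf (H := A)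
        (Subgroup.le_normalizer_of_normal (H := (P : Subgroup (cen x)) ⊔ Q))
      rw [hsup, hinf, Subgroup.card_top, Subgroup.card_bot, mul_one, hcard,
        ← A.card_mul_index, mul_comm (_ * _)] at h1
      have h2 : A.index = Nat.card P * Nat.card Q := Nat.eq_of_mul_eq_mul_left Nat.card_pos h1
      have h3 : j ∣ A.index := hyj ▸ Subgroup.index_dvd_of_le (hAc.trans (center_le_cen y))
      rw [h2] at h3
      rcases (Nat.Prime.dvd_mul hp).1 (hd.trans h3) with h4 | h4
      · obtain ⟨i, hi⟩ := P.isPGroup'.exists_card_eq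
        exact Or.inl ((Nat.prime_dvd_prime_iff_eq hp hq).1 (hp.dvd_of_dvd_pow (hi ▸ h4)))
      · obtain ⟨i, hi⟩ := Q.isPGroup'.exists_card_eq
        exact Or.inr ((Nat.prime_dvd_prime_iff_eq hp ht).1 (hp.dvd_of_dvd_pow (hi ▸ h4)))
    obtain ⟨hqk, hqj, htk, htj⟩ : q ∣ k ∧ q ∣ j ∧ t ∣ k ∧ t ∣ j := by
      have a1 := hpj p₁ h₁ hk₁ hM₁
      have a2 := hpj p₂ h₂ hk₂ hM₂
      rcases hj2 p₁ h₁ a1 with rfl | rfl <;> rcases hj2 p₂ h₂ a2 with rfl | rfl <;>
        first | exact absurd rfl hne | exact ⟨‹_›, ‹_›, ‹_›, ‹_›⟩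
    obtain ⟨z, hzt, hz1, hzm, hcz, -⟩ :=
      h.exists_same hq htq.symm htk (hj ▸ dvd_mul_of_dvd_right htj m) hxq hxm
    have hside : ∀ {a b : ℕ} {w : G}, a.Prime → b.Prime → a ≠ b → IsPPow a w → sz w = m →
        cen w = cen x → ∀ u : cen x, IsPPow b u → u ∉ Subgroup.center (cen x) → sz u = j := by
      intro a b w ha hb hab hw hwm hcw u hu hunc
      have hug : IsPPow b (u : G) := hu.imp fun i hi => by rw [← Subgroup.coe_pow, hi]; rfl
      rcases h.coprime_sz hj hwm (hcw.symm ▸ u.2) (hw.coprime ha hb hab hug) with ⟨e, -⟩ | ⟨e, -⟩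
      · refine absurd (sz_eq_one_iff.1 ?_) hunc
        rw [sz_subgroup]
        exact (congrArg ((cen (u : G)).relIndex ·) hcw).symm.trans e
      · rw [sz_subgroup]
        exact (congrArg ((cen (u : G)).relIndex ·) hcw).symm.trans e
    have hT := hside hq ht htq.symm hxq hxm rfl
    have hQ := hside ht hq htq hzt hzm hcz
    exact two_prime_false hq ht htq.symm hqj htj hj2 ⟨y, hyj⟩ hQ hT
      (h.exists_partner hk hj hq ht htq.symm htk htj hzt hz1 hzm hcz hT ⟨y, hyj⟩)
      (h.exists_partner hk hj ht hq htq hqk hqj hxq hx1 hxm rfl hQ ⟨y, hyj⟩)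

end Three

end Cfsg.Agent.ThreeClassSizes
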